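import Mathlib
import Cfsg.Agent.Lib.Perm.GeomBaer

/-! Collineation groups preserving an oval in a plane of odd order: homologies. -/

set_option autoImplicit false

namespace CfsgLib.Oval

open MulAction CfsgLib.Perm Subgroup

section Orb
variable {G X : Type*} [Group G] [MulAction G X] [Finite X]

theorem fix_mod {g : G} {p : ℕ} (hp : p.Prime) (hg : g ^ p = 1) (A : Set X)
    (hA : ∀ a ∈ A, g • a ∈ A) : {a | a ∈ A ∧ g • a = a}.ncard ≡ A.ncard [MOD p] := by
  have := Fact.mk hp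
  have hsub : {a | a ∈ A ∧ g • a = a} ⊆ A := fun a h => h.1
  have h1 := Set.ncard_sdiff_add_ncard_of_subset hsub
  have hA' : ∀ (k : ℕ), ∀ a ∈ A, g ^ k • a ∈ A := fun k => by
    induction k with
    | zero => simp
    | succ k ih => intro a ha; rw [pow_succ', mul_smul]; exact hA _ (ih a ha)
  have hfin : IsOfFinOrder g := isOfFinOrder_iff_pow_eq_one.2 ⟨p, hp.pos, hg⟩
  have h2 : p ∣ (A \ {a | a ∈ A ∧ g • a = a}).ncard := by
    refine dvd_ncard_of_gorb (zpowers g) _ ?_ ?_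
    · intro k hk a ha
      obtain ⟨j, rfl⟩ := (hfin.mem_powers_iff_mem_zpowers.2 hk)
      refine ⟨hA' j a ha.1, fun h => ha.2 ⟨ha.1, ?_⟩⟩
      have h3 := h.2
      simp only at h3
      rw [← mul_smul, ← pow_succ', pow_succ, mul_smul] at h3
      exact smul_left_cancel _ h3
    · intro a ha
      have h0 : g ≠ 1 := fun e => ha.2 ⟨ha.1, by simp [e]⟩
      have ho : orderOf g = p := orderOf_eq_prime hg h0
      rw [ncard_gorb_of_free _ _ fun k hk e => ?_, Nat.card_zpowers, ho]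
      by_contra hk1
      have h4 : zpowers k = zpowers g := by
        have : Finite (zpowers g) := hfin.finite_zpowers
        have hc : Nat.card (zpowers g) = p := by rw [Nat.card_zpowers, ho]
        have : Fact (Nat.card (zpowers g)).Prime := ⟨hc ▸ hp⟩
        rcases ((zpowers k).subgroupOf (zpowers g)).eq_bot_or_eq_top_of_prime_card (G := zpowers g)
          with h | h
        · exact absurd (congrArg Subtype.val ((eq_bot_iff_forall _).1 h ⟨k, hk⟩ (mem_zpowers k))) hk1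
        · exact le_antisymm (zpowers_le.2 hk) (subgroupOf_eq_top.1 h)
      exact ha.2 ⟨ha.1, fx_zpowers.2 e g (h4 ▸ mem_zpowers g)⟩
  rw [← h1]
  exact ((Nat.modEq_iff_dvd' (Nat.le_add_left _ _)).2 (by simpa using h2))

end Orb

variable {P L : Type*} [Fintype P] [Fintype L] {I : P → L → Prop} {n : ℕ}
variable {G : Type*} [Group G] [MulAction G P] [MulAction G L]

/-- A collineation group preserving an oval of a plane of odd order. -/
structure Ov (G : Type*) [Group G] [MulAction G P] [MulAction G L] (I : P → L → Prop) (n : ℕ)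
    (O : Set P) : Prop extends PlaneAct G I n where
  odd : Odd n
  card : O.ncard = n + 1
  arc : ∀ {l p q r}, p ∈ O → q ∈ O → r ∈ O → I p l → I q l → I r l → p = q ∨ p = r ∨ q = r
  inv : ∀ (g : G) {p}, p ∈ O → g • p ∈ O

/-- tangent -/
def Tan (I : P → L → Prop) (O : Set P) (A : P) (t : L) : Prop := I A t ∧ ∀ B ∈ O, I B t → B = A

/-- homology with centre and axis -/
structure Hm (I : P → L → Prop) (t : G) (c : P) (l : L) : Prop where
  ne : t ≠ 1
  cen : t ∈ cenG G I c
  ax : t ∈ axG G I l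

variable {O : Set P}

namespace Ov
variable (d : Ov G I n O)
include d

theorem cnt {A : P} (hA : A ∈ O) (R : L → Prop) (Q : P → Prop)
    (h : ∀ B ∈ O, B ≠ A → ∀ l, I A l → I B l → (R l ↔ Q B)) :
    {l | I A l ∧ R l ∧ ¬ Tan I O A l}.ncard = {B | B ∈ O ∧ B ≠ A ∧ Q B}.ncard := by
  choose f h1 h2 using fun B => d.join A B
  symm
  refine Set.ncard_congr (fun B _ => f B) ?_ ?_ ?_
  · rintro B ⟨b1, b2, b3⟩
    exact ⟨h1 B, (h B b1 b2 _ (h1 B) (h2 B)).2 b3, fun e => b2 (e.2 B b1 (h2 B))⟩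
  · rintro B C ⟨b1, b2, -⟩ ⟨c1, c2, -⟩ e
    rcases d.arc hA b1 c1 (h1 B) (h2 B) (e ▸ h2 C) with e | e | e
    exacts [absurd e.symm b2, absurd e.symm c2, e]
  · rintro l ⟨l1, l2, l3⟩
    obtain ⟨B, b1, b2, b3⟩ : ∃ B ∈ O, I B l ∧ B ≠ A := by
      by_contra hc
      push Not at hc
      exact l3 ⟨l1, hc⟩
    exact ⟨B, ⟨b1, b3, (h B b1 b3 l l1 b2).1 l2⟩, d.uniq b3 (h2 B) (h1 B) b2 l1⟩

theorem ncard_tan {A : P} (hA : A ∈ O) : {l | Tan I O A l}.ncard = 1 := by
  have h1 := d.cnt hA (fun _ => True) (fun _ => True) (by simp)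
  have h2 : {B | B ∈ O ∧ B ≠ A ∧ True} = O \ {A} := by ext; simp
  have h3 : {l | I A l ∧ True ∧ ¬ Tan I O A l} = {l | I A l} \ {l | Tan I O A l} := by ext; simp
  have h4 := Set.ncard_sdiff_add_ncard_of_subset (s := {l | Tan I O A l}) (t := {l | I A l})
    fun l h => h.1
  rw [h2, h3, Set.ncard_diff_singleton_of_mem hA, d.card] at h1
  rw [h1, d.rep] at h4
  omega

theorem exists_tan {A : P} (hA : A ∈ O) : ∃ t, Tan I O A t :=
  (Set.ncard_pos (s := {l | Tan I O A l})).1 (by rw [d.ncard_tan hA]; omega)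

theorem tan_uniq {A : P} (hA : A ∈ O) {s t : L} (hs : Tan I O A s) (ht : Tan I O A t) : s = t :=
  (Set.ncard_le_one_iff (s := {l | Tan I O A l})).1 (d.ncard_tan hA).le hs ht

theorem tan_smul {A : P} {t : L} (ht : Tan I O A t) (g : G) : Tan I O (g • A) (g • t) :=
  ⟨(d.inc g A t).2 ht.1, fun B b1 b2 => by
    rw [← ht.2 (g⁻¹ • B) (d.inv _ b1) (by rw [← d.inc g, smul_inv_smul]; exact b2), smul_inv_smul]⟩

theorem fix_tan {A : P} (hA : A ∈ O) {t : L} (ht : Tan I O A t) {g : G} (hg : g • A = A) :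
    g • t = t := d.tan_uniq hA (hg ▸ d.tan_smul ht g) ht

theorem three_le : 3 ≤ n := by have := d.two_le; have := d.odd; grind

theorem exists_ne (A B C : P) : ∃ D ∈ O, D ≠ A ∧ D ≠ B ∧ D ≠ C := by
  by_contra hc
  push Not at hc
  have h1 : O ⊆ {A, B, C} := fun D hD => by
    by_cases e1 : D = A
    · simp [e1]
    by_cases e2 : D = B
    · simp [e2]
    simp [hc D hD e1 e2]
  have h2 := Set.ncard_le_ncard h1
  have h3 := Set.ncard_insert_le A ({B, C} : Set P)
  have h4 := Set.ncard_insert_le B ({C} : Set P)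
  rw [d.card] at h2
  have := d.three_le
  simp at h4
  omega

theorem cen_of_fixO {g : G} (h : ∀ A ∈ O, g • A = A) {A : P} (hA : A ∈ O) : g ∈ cenG G I A :=
  fun l hl => by
    by_cases e : Tan I O A l
    · exact d.fix_tan hA e (h A hA)
    · obtain ⟨B, b1, b2, b3⟩ : ∃ B ∈ O, I B l ∧ B ≠ A := by
        by_contra hc
        push Not at hc
        exact e ⟨hl, hc⟩
      exact d.fix_line b3 (h B b1) (h A hA) b2 hl

theorem eq_one {g : G} (h : ∀ A ∈ O, g • A = A) : g = 1 := by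
  obtain ⟨A, hA⟩ := (Set.ncard_pos (s := O)).1 (by rw [d.card]; omega)
  obtain ⟨B, hB, h1, -⟩ := d.exists_ne A A A
  exact d.eq_one_of_two_cen h1 (d.cen_of_fixO h hB) (d.cen_of_fixO h hA)

/-- two collineations fixing a line act on its oval points -/
theorem line_cases {g k : G} {l : L} (hg : g • l = l) (hk : k • l = l) {A : P} (hA : A ∈ O)
    (h : I A l) : g • A = A ∨ k • A = A ∨ g • A = k • A := by
  rcases d.arc hA (d.inv g hA) (d.inv k hA) h (d.inc_of_fix hg h) (d.inc_of_fix hk h) with e | e | e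
  exacts [Or.inl e.symm, Or.inr (Or.inl e.symm), Or.inr (Or.inr e)]

theorem sq_fix {g : G} {l : L} (hg : g • l = l) {A : P} (hA : A ∈ O) (h : I A l) :
    (g * g) • A = A := by
  rcases d.line_cases hg (k := g * g) (by rw [mul_smul, hg, hg]) hA h with e | e | e
  · rw [mul_smul, e, e]
  · exact e
  · rw [mul_smul] at e
    rw [mul_smul, ← e, ← smul_left_cancel g e]

theorem cen_sq {g : G} {c : P} (h : g ∈ cenG G I c) : g * g = 1 :=
  d.eq_one fun A hA => by
    obtain ⟨l, h1, h2⟩ := d.join A c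
    exact d.sq_fix (h l h2) hA h1

theorem sq {t : G} {c : P} {l : L} (h : Hm I t c l) : t * t = 1 := d.cen_sq h.cen

theorem not_inc {t : G} {c : P} {l : L} (h : Hm I t c l) : ¬ I c l :=
  d.not_inc_of_hom d.odd ⟨t, h.ne, d.sq h, h.cen, h.ax⟩

theorem fix_pt {t : G} {c : P} {l : L} (h : Hm I t c l) {u : P} (hu : t • u = u) :
    I u l ∨ u = c := by
  by_contra hc
  push Not at hc
  exact h.ne (d.eq_one_of_fix h.cen h.ax hu hc.1 hc.2)

theorem fix_ln {t : G} {c : P} {l : L} (h : Hm I t c l) {m : L} (hm : t • m = m) :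
    I c m ∨ m = l := by
  by_contra hc
  push Not at hc
  exact h.ne (d.dual.eq_one_of_fix h.ax h.cen hm hc.1 hc.2)

theorem cen_not_mem {t : G} {c : P} {l : L} (h : Hm I t c l) : c ∉ O := fun hc =>
  h.ne (d.eq_one fun A hA => by
    obtain ⟨m, h1, h2⟩ := d.join A c
    rcases d.arc hA (d.inv t hA) hc h1 (d.inc_of_fix (h.cen m h2) h1) h2 with e | e | e
    · exact e.symm
    · rw [e, d.cen_fix h.cen]
    · rw [← d.cen_fix h.cen] at e
      rw [smul_left_cancel t e, d.cen_fix h.cen])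

theorem fix_ax {t : G} {c : P} {l : L} (h : Hm I t c l) {u : P} (hO : u ∈ O) (hu : t • u = u) :
    I u l := (d.fix_pt h hu).resolve_right fun e => d.cen_not_mem h (e ▸ hO)

theorem conj {t : G} {c : P} {l : L} (h : Hm I t c l) (g : G) :
    Hm I (g * t * g⁻¹) (g • c) (g • l) :=
  ⟨by simpa using h.ne, d.cen_conj g h.cen, d.ax_conj g h.ax⟩

theorem cen_eq {t : G} {c c' : P} {l l' : L} (h : Hm I t c l) (h' : Hm I t c' l') : c = c' :=
  by_contra fun e => h.ne (d.eq_one_of_two_cen e h.cen h'.cen)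

theorem ax_eq {t : G} {c c' : P} {l l' : L} (h : Hm I t c l) (h' : Hm I t c' l') : l = l' :=
  by_contra fun e => h.ne (d.eq_one_of_two_ax e h.ax h'.ax)

theorem comm_fix {t g : G} {c : P} {l : L} (h : Hm I t c l) (hg : g * t = t * g) :
    g • c = c ∧ g • l = l := by
  have h1 := d.conj h g
  rw [hg, mul_inv_cancel_right] at h1
  exact ⟨d.cen_eq h1 h, d.ax_eq h1 h⟩

theorem eq_of_cen {t t' : G} {c : P} {l l' : L} (h : Hm I t c l) (h' : Hm I t' c l') : t = t' := by
  have key : ∀ {t t' : G} {l l' : L}, Hm I t c l → Hm I t' c l' → ∀ A ∈ O, t • A = A → t' • A = A :=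
    fun {t t' l l'} h h' A hA e => by
      by_contra hne
      obtain ⟨m, h1, h2⟩ := d.join A c
      have h3 : I (t' • A) m := d.inc_of_fix (h'.cen m h2) h1
      have h4 : t • t' • A = t' • A := by
        rcases d.arc hA (d.inv t' hA) (d.inv t (d.inv t' hA)) h1 h3
          (d.inc_of_fix (h.cen m h2) h3) with e1 | e1 | e1
        · exact absurd e1.symm hne
        · exact absurd (smul_left_cancel t (e.trans e1)).symm hne
        · exact e1.symm
      exact d.not_inc h (d.uniq hne h3 h1 (d.fix_ax h (d.inv t' hA) h4) (d.fix_ax h hA e) ▸ h2)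
  rw [← mul_inv_eq_one]
  refine d.eq_one fun A hA => ?_
  have hB := d.inv t'⁻¹ hA
  obtain ⟨m, h1, h2⟩ := d.join (t'⁻¹ • A) c
  rw [mul_smul]
  rcases d.line_cases (h.cen m h2) (h'.cen m h2) hB h1 with e | e | e
  · rw [e, ← key h h' _ hB e, smul_inv_smul]
  · rw [key h' h _ hB e, ← e, smul_inv_smul]
  · rw [e, smul_inv_smul]

theorem comm_of_sq {t t' : G} (h : t * t = 1) (h' : t' * t' = 1) (h2 : t * t' * (t * t') = 1) :
    t * t' = t' * t := by
  have : t' * t = (t * t')⁻¹ := by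
    rw [mul_inv_rev, inv_eq_of_mul_eq_one_right h, inv_eq_of_mul_eq_one_right h']
  rw [this, eq_inv_iff_mul_eq_one, h2]

theorem eq_of_ax {t t' : G} {c c' : P} {l : L} (h : Hm I t c l) (h' : Hm I t' c' l) : t = t' := by
  obtain ⟨e, he⟩ := d.exists_cen (mul_mem h.ax h'.ax)
  have h1 := d.comm_of_sq (d.sq h) (d.sq h') (d.cen_sq he)
  obtain rfl := (d.fix_pt h (d.comm_fix h' h1).1).resolve_left (d.not_inc h')
  exact d.eq_of_cen h h'

theorem hm_or_nd {t : G} (h1 : t ≠ 1) (h2 : t * t = 1) :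
    (∃ c l, Hm I t c l) ∨ ND I (zpowers t) := by
  by_cases h : ND I (zpowers t)
  · exact Or.inr h
  left
  unfold ND at h
  push Not at h
  obtain ⟨a, c, h⟩ := h
  obtain ⟨l, hl⟩ := d.exists_ax_of_inv h2 (fun p => I p a) (fun p => p = c)
    (fun p q r l e p1 q1 r1 p2 q2 => d.uniq e p1 q1 p2 q2 ▸ r1) (fun p q e1 e2 => e1.trans e2.symm)
    (fun p hp => by
      by_cases e : I p a
      exacts [Or.inl e, Or.inr (h p (fx_zpowers.2 hp) e)]) c
  obtain ⟨e, he⟩ := d.exists_cen hl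
  exact ⟨e, l, h1, he, hl⟩

/-- an axis is not a tangent -/
theorem not_tan {t : G} {c : P} {l : L} (h : Hm I t c l) {A : P} (hA : A ∈ O) : ¬ Tan I O A l :=
  fun ht => by
    have h1 := fix_mod Nat.prime_two (by rw [pow_two, d.sq h]) O fun a ha => d.inv t ha
    have h2 : {a | a ∈ O ∧ t • a = a} = {A} := Set.eq_singleton_iff_unique_mem.2
      ⟨⟨hA, h.ax A ht.1⟩, fun B hB => ht.2 B hB.1 (d.fix_ax h hB.1 hB.2)⟩
    rw [h2, Set.ncard_singleton, d.card] at h1
    have := d.odd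
    unfold Nat.ModEq at h1
    grind

theorem cen_tan {t : G} {c : P} {l : L} (h : Hm I t c l) {A : P} (hA : A ∈ O) (e : t • A = A)
    {s : L} (hs : Tan I O A s) : I c s :=
  (d.fix_ln h (d.fix_tan hA hs e)).resolve_right fun e => d.not_tan h hA (e ▸ hs)

/-- fixed points of a product of two homologies -/
theorem prod_fix {t t' : G} {c c' : P} {l l' m : L} (h : Hm I t c l) (h' : Hm I t' c' l')
    (h1 : I c m) (h2 : I c' m) (hne : t ≠ t') {u : P} (hu : (t * t') • u = u) :
    I u m ∨ (I u l ∧ I u l') := by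
  have h3 : t' • u = t • u := by
    rw [← smul_left_cancel_iff t, ← mul_smul, hu, ← mul_smul, d.sq h, one_smul]
  by_cases e : t • u = u
  · rcases d.fix_pt h e with e1 | e1
    · rcases d.fix_pt h' (h3.trans e) with e2 | e2
      exacts [Or.inr ⟨e1, e2⟩, Or.inl (e2 ▸ h2)]
    · exact Or.inl (e1 ▸ h1)
  · obtain ⟨k, k1, k2⟩ := d.join u c
    obtain ⟨k', k1', k2'⟩ := d.join u c'
    obtain rfl := d.uniq e (d.inc_of_fix (h.cen k k2) k1) k1
      (h3 ▸ d.inc_of_fix (h'.cen k' k2') k1') k1'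
    exact Or.inl (d.uniq (fun e : c = c' => hne (d.eq_of_cen h (e ▸ h'))) k2 k2' h1 h2 ▸ k1)

theorem prod_le {t t' : G} {c c' : P} {l l' : L} (h : Hm I t c l) (h' : Hm I t' c' l')
    (hne : t ≠ t') {p q r : P} (hp : p ∈ O) (hq : q ∈ O) (hr : r ∈ O) (p1 : (t * t') • p = p)
    (q1 : (t * t') • q = q) (r1 : (t * t') • r = r) : p = q ∨ p = r ∨ q = r := by
  obtain ⟨m, h1, h2⟩ := d.join c c'
  have key : ∀ u ∈ O, (t * t') • u = u → I u m := fun u hu e =>
    (d.prod_fix h h' h1 h2 hne e).elim id fun e => by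
      obtain ⟨s, hs⟩ := d.exists_tan hu
      exact d.uniq (fun e : c = c' => hne (d.eq_of_cen h (e ▸ h')))
        (d.cen_tan h hu (h.ax u e.1) hs) (d.cen_tan h' hu (h'.ax u e.2) hs) h1 h2 ▸ hs.1
  exact d.arc hp hq hr (key p hp p1) (key q hq q1) (key r hr r1)

/-- an element of order four fixing a line through the centre of its square -/
theorem four_dvd {g : G} {c : P} {l m : L} (h : Hm I (g * g) c l) (hc : I c m) (hm : g • m = m) :
    4 ∣ n - 1 := by
  obtain ⟨x, x1, x2⟩ := d.meet m l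
  have hml : m ≠ l := fun e => d.not_inc h (e ▸ hc)
  have hxc : x ≠ c := fun e => d.not_inc h (e ▸ x2)
  obtain ⟨g1, g2⟩ := d.comm_fix h (g := g) (mul_assoc g g g).symm
  have g3 : g • x = x := d.fix_point hml hm g2 x1 x2
  have h4 : g ^ 4 = 1 := by rw [← d.sq h]; simp [pow_succ, mul_assoc]
  have ho : orderOf g = 4 := by
    have := Fact.mk Nat.prime_two
    exact orderOf_eq_prime_pow (p := 2) (n := 1) (by simpa [pow_two] using h.ne) h4
  have h5 : {p | I p m ∧ p ≠ c} \ {x} = {p | I p m ∧ p ≠ c ∧ p ≠ x} := by ext; simp [and_assoc]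
  rw [← d.ncard_punct hc, ← Set.ncard_diff_singleton_of_mem
    (show x ∈ {p | I p m ∧ p ≠ c} from ⟨x1, hxc⟩), h5]
  refine dvd_ncard_of_gorb (zpowers g) _ ?_ ?_
  · intro k hk a ha
    refine ⟨d.inc_of_fix (fx_zpowers.2 hm k hk) ha.1, fun e => ha.2.1 ?_, fun e => ha.2.2 ?_⟩
    · rw [← fx_zpowers.2 g1 k hk] at e; exact smul_left_cancel k e
    · rw [← fx_zpowers.2 g3 k hk] at e; exact smul_left_cancel k e
  · intro a ha
    rw [ncard_gorb_of_free _ _ fun k hk e => ?_, Nat.card_zpowers, ho]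
    by_contra hk1
    have h6 : (g * g) • a = a := by
      obtain ⟨j, rfl⟩ := (isOfFinOrder_iff_pow_eq_one.2 ⟨4, by omega, h4⟩).mem_powers_iff_mem_zpowers.2 hk
      simp only at e hk1
      rw [pow_eq_pow_mod j h4] at e hk1
      have hj : j % 4 < 4 := Nat.mod_lt _ (by omega)
      generalize j % 4 = i at e hk1 hj
      interval_cases i
      · simp at hk1
      · rw [pow_one] at e; rw [mul_smul, e, e]
      · rwa [pow_two] at e
      · have : g * g = g ^ 3 * g ^ 3 := by rw [← pow_add, show 3 + 3 = 4 + 2 from rfl, pow_add, h4,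
          one_mul, pow_two]
        rw [this, mul_smul, e, e]
    rcases d.fix_pt h h6 with e1 | e1
    exacts [ha.2.2 (d.uniq' hml ha.1 e1 x1 x2), ha.2.1 e1]

end Ov

end CfsgLib.Oval
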