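import Mathlib
import Cfsg.Agent.Lib.Oval.Geo1
import Cfsg.Agent.Lib.Frob.Quaternion

/-! Collineation groups preserving an oval: Baer involutions. -/

set_option autoImplicit false

namespace CfsgLib.Oval

open MulAction CfsgLib.Perm Subgroup

variable {P L : Type*} [Fintype P] [Fintype L] {I : P → L → Prop} {n : ℕ}
variable {G : Type*} [Group G]

theorem exists_ext {H : Subgroup G} {t : G} (c : ∀ g ∈ H, t * g * t⁻¹ ∈ H)
    (c' : ∀ g ∈ H, t⁻¹ * g * t ∈ H) (sq : t * t ∈ H) : ∃ K, Ext2 H K t := by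
  refine ⟨⟨⟨⟨{g | g ∈ H ∨ g * t ∈ H}, ?_⟩, Or.inl (one_mem _)⟩, ?_⟩, fun g hg => Or.inl hg,
    Or.inr sq, c, c', sq, fun g hg => hg⟩
  · rintro a b (ha | ha) (hb | hb)
    · exact Or.inl (mul_mem ha hb)
    · exact Or.inr (by simpa [mul_assoc] using mul_mem ha hb)
    · exact Or.inr (by simpa [mul_assoc] using mul_mem ha (c' b hb))
    · exact Or.inl (by simpa [mul_assoc] using mul_mem (mul_mem ha (c' _ hb)) (inv_mem sq))
  · rintro a (ha | ha)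
    · exact Or.inl (inv_mem ha)
    · exact Or.inr (by simpa [mul_assoc] using mul_mem (c _ (inv_mem ha)) sq)

/-- a four-group modulo `H` -/
structure Q4 (H : Subgroup G) (a b : G) : Prop where
  ca : ∀ g ∈ H, a * g * a⁻¹ ∈ H
  ca' : ∀ g ∈ H, a⁻¹ * g * a ∈ H
  cb : ∀ g ∈ H, b * g * b⁻¹ ∈ H
  cb' : ∀ g ∈ H, b⁻¹ * g * b ∈ H
  sa : a * a ∈ H
  sb : b * b ∈ H
  sab : a * b * (a * b) ∈ H

theorem Q4.symm {H : Subgroup G} {a b : G} (q : Q4 H a b) : Q4 H b a :=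
  ⟨q.cb, q.cb', q.ca, q.ca', q.sb, q.sa, by simpa [mul_assoc] using q.cb _ q.sab⟩

theorem Q4.mul {H : Subgroup G} {a b : G} (q : Q4 H a b) : Q4 H (a * b) a :=
  ⟨fun g hg => by simpa [mul_assoc] using q.ca _ (q.cb g hg),
    fun g hg => by simpa [mul_assoc] using q.cb' _ (q.ca' g hg), q.ca, q.ca', q.sab, q.sa,
    by simpa [mul_assoc] using mul_mem (q.ca _ (mul_mem (q.cb _ q.sa) q.sb)) q.sa⟩

theorem Q4.ext {H K : Subgroup G} {a b : G} (q : Q4 H a b) (e : Ext2 H K a) :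
    ∃ E, Ext2 K E b := by
  refine exists_ext (fun g hg => ?_) (fun g hg => ?_) (e.le q.sb)
  · rcases e.cases g hg with h | h
    · exact e.le (q.cb g h)
    · simpa [mul_assoc] using mul_mem (e.le (mul_mem (q.cb _ h)
        (mul_mem q.sb (inv_mem q.sab)))) e.mem
  · rcases e.cases g hg with h | h
    · exact e.le (q.cb' g h)
    · simpa [mul_assoc] using mul_mem (e.le (mul_mem (q.cb' _ h) (inv_mem q.sab)))
        (mul_mem e.mem (e.le q.sb))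

variable [MulAction G P] [MulAction G L] {O : Set P}

/-- the fixed structure is a subplane of order `m` -/
structure Sub (I : P → L → Prop) (H : Subgroup G) (m : ℕ) : Prop extends FxOrd I H m where
  two : 2 ≤ m
  pt : ∀ p, Fx H p → {l | Fx H l ∧ I p l}.ncard = m + 1

/-- three fixed points on the oval -/
def Three (O : Set P) (K : Subgroup G) : Prop :=
  ∃ A ∈ O, ∃ B ∈ O, ∃ C ∈ O, A ≠ B ∧ A ≠ C ∧ B ≠ C ∧ Fx K A ∧ Fx K B ∧ Fx K C

theorem Three.mono {H K : Subgroup G} (h : Three O K) (hle : H ≤ K) : Three O H := by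
  obtain ⟨A, hA, B, hB, C, hC, h1, h2, h3, a1, b1, c1⟩ := h
  exact ⟨A, hA, B, hB, C, hC, h1, h2, h3, fun g hg => a1 g (hle hg), fun g hg => b1 g (hle hg),
    fun g hg => c1 g (hle hg)⟩

namespace Ov
variable (d : Ov G I n O)
include d

theorem sub {H : Subgroup G} (h : ND I H) : ∃ m, Sub I H m := by
  obtain ⟨A, hA⟩ := (Set.ncard_pos (s := O)).1 (by rw [d.card]; omega)
  obtain ⟨m, hm⟩ := d.subplane h A
  obtain ⟨a, -⟩ := d.join A A
  obtain ⟨p, hp, -⟩ := h a A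
  exact ⟨m, hm.fxOrd ⟨p, hp⟩, hm.two_le, fun p hp => by
    rw [← ncard_fxT H fun l => I p l]; exact hm.rep ⟨p, hp⟩⟩

theorem fx_tan {H : Subgroup G} {A : P} (hA : A ∈ O) {t : L} (ht : Tan I O A t) (h : Fx H A) :
    Fx H t := fun g hg => d.fix_tan hA ht (h g hg)

theorem fx_line {H : Subgroup G} {p q : P} {l : L} (h : p ≠ q) (hp : Fx H p) (hq : Fx H q)
    (h1 : I p l) (h2 : I q l) : Fx H l := fun g hg => d.fix_line h (hp g hg) (hq g hg) h1 h2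

theorem fx_point {H : Subgroup G} {p : P} {l m : L} (h : l ≠ m) (hl : Fx H l) (hm : Fx H m)
    (h1 : I p l) (h2 : I p m) : Fx H p := fun g hg => d.fix_point h (hl g hg) (hm g hg) h1 h2

theorem sub_card {H : Subgroup G} {m : ℕ} (h : Sub I H m) {A : P} (hA : A ∈ O) (h1 : Fx H A) :
    {B | B ∈ O ∧ Fx H B}.ncard = m + 1 := by
  have h2 := d.cnt hA (Fx H) (Fx H) fun B b1 b2 l l1 l2 =>
    ⟨fun e g hg => by
      rcases d.arc hA b1 (d.inv g b1) l1 l2 (d.inc_of_fix (e g hg) l2) with e1 | e1 | e1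
      · exact absurd e1.symm b2
      · exact absurd (smul_left_cancel g ((h1 g hg).trans e1)).symm b2
      · exact e1.symm, fun e => d.fx_line b2 e h1 l2 l1⟩
  obtain ⟨t, ht⟩ := d.exists_tan hA
  have h3 : {l | I A l ∧ Fx H l ∧ ¬ Tan I O A l} = {l | Fx H l ∧ I A l} \ {t} := by
    ext l
    simp only [Set.mem_setOf_eq, Set.mem_diff, Set.mem_singleton_iff]
    exact ⟨fun ⟨a, b, c⟩ => ⟨⟨b, a⟩, fun e => c (e ▸ ht)⟩,
      fun ⟨⟨a, b⟩, c⟩ => ⟨b, a, fun e => c (d.tan_uniq hA e ht)⟩⟩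
  have h4 : {B | B ∈ O ∧ B ≠ A ∧ Fx H B} = {B | B ∈ O ∧ Fx H B} \ {A} := by
    ext l
    simp only [Set.mem_setOf_eq, Set.mem_diff, Set.mem_singleton_iff]
    tauto
  have h5 := Set.ncard_diff_singleton_add_one (s := {B | B ∈ O ∧ Fx H B}) (a := A) ⟨hA, h1⟩
  rw [h3, h4, Set.ncard_diff_singleton_of_mem (show t ∈ {l | Fx H l ∧ I A l} from
    ⟨d.fx_tan hA ht h1, ht.1⟩), h.pt A h1] at h2
  omega

theorem nd_of_three {K : Subgroup G} (h : Three O K) : ND I K := by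
  obtain ⟨A, hA, B, hB, C, hC, h1, h2, h3, a1, b1, c1⟩ := h
  obtain ⟨s, hs⟩ := d.exists_tan hA
  obtain ⟨t, ht⟩ := d.exists_tan hB
  have hst : s ≠ t := fun e => h1 (ht.2 A hA (e ▸ hs.1))
  obtain ⟨D, d1, d2⟩ := d.meet s t
  have d3 : Fx K D := d.fx_point hst (d.fx_tan hA hs a1) (d.fx_tan hB ht b1) d1 d2
  have hAD : A ≠ D := fun e => h1 (ht.2 A hA (e ▸ d2))
  have hBD : B ≠ D := fun e => h1 (hs.2 B hB (e ▸ d1)).symm
  have hCD : C ≠ D := fun e => h2 (hs.2 C hC (e ▸ d1)).symm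
  intro a c
  by_contra hc
  push Not at hc
  have k1 : I A a → I D a → ∀ U ∈ O, I U a → U = A := fun e1 e2 U u1 u2 =>
    hs.2 U u1 (d.uniq hAD e1 e2 hs.1 d1 ▸ u2)
  have k2 : I B a → I D a → ∀ U ∈ O, I U a → U = B := fun e1 e2 U u1 u2 =>
    ht.2 U u1 (d.uniq hBD e1 e2 ht.1 d2 ▸ u2)
  have k : ∀ {U V : P}, Fx K U → Fx K V → U ≠ V → ¬ I U a → I V a := fun u1 v1 e u2 =>
    by_contra fun v2 => e ((hc _ u1 u2).trans (hc _ v1 v2).symm)
  by_cases iA : I A a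
  · by_cases iB : I B a
    · by_cases iC : I C a
      · rcases d.arc hA hB hC iA iB iC with e | e | e
        exacts [h1 e, h2 e, h3 e]
      · exact h1 (k1 iA (k c1 d3 hCD iC) B hB iB).symm
    · exact h2 (k1 iA (k b1 d3 hBD iB) C hC (k b1 c1 h3 iB)).symm
  · exact h3 (k2 (k a1 b1 h1 iA) (k a1 d3 hAD iA) C hC (k a1 c1 h2 iA)).symm

theorem baer' {H K : Subgroup G} {t : G} (e : Ext2 H K t) {m k : ℕ} (hH : FxOrd I H m)
    (hK : FxOrd I K k) (h : ∃ p : P, Fx H p ∧ t • p ≠ p) : m = k ^ 2 :=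
  (d.baer e hH hK).resolve_left fun e1 => by
    obtain ⟨p, p1, p2⟩ := h
    have := Set.eq_of_subset_of_ncard_le (s := {p : P | Fx K p}) (t := {p : P | Fx H p})
      (fun q hq => (e.fx_iff.1 hq).1) (by rw [hH.pts, hK.pts, e1])
    exact p2 (e.fx_iff.1 (show p ∈ {p : P | Fx K p} from this ▸ p1)).2

theorem pair_line {K E : Subgroup G} {s : G} (e : Ext2 K E s) {y : P} (hy : y ∈ O) (h1 : Fx K y)
    (h2 : s • y ≠ y) : ∃ l, I y l ∧ Fx E l ∧ ∀ A ∈ O, I A l → s • A ≠ A := by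
  obtain ⟨l, l1, l2⟩ := d.join (s • y) y
  have h3 : s • s • y = y := by rw [← mul_smul, h1 _ e.sq]
  refine ⟨l, l2, e.fx_iff.2 ⟨d.fx_line h2 (e.fx_smul.2 h1) h1 l1 l2, d.uniq h2
    ((d.inc s y l).2 l2) (by rw [← h3, d.inc]; exact l1) l1 l2⟩, fun A hA l3 e1 => ?_⟩
  rcases d.arc hy (d.inv s hy) hA l2 l1 l3 with e2 | e2 | e2
  · exact h2 e2.symm
  · exact h2 (e2 ▸ e1)
  · rw [← e2, h3] at e1; exact h2 e1.symm

theorem le_two_mul {Y : Set P} (hY : Y ⊆ O) {Λ : Set L} (h : ∀ y ∈ Y, ∃ l ∈ Λ, I y l) :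
    Y.ncard ≤ 2 * Λ.ncard := by
  classical
  obtain ⟨A, -⟩ := (Set.ncard_pos (s := O)).1 (by rw [d.card]; omega)
  have : Nonempty L := ⟨(d.join A A).choose⟩
  choose! f h1 h2 using h
  rw [Set.ncard_eq_toFinset_card' Y, Set.ncard_eq_toFinset_card' Λ]
  refine Finset.card_le_mul_card_image_of_maps_to (f := f) (by simpa using h1) 2 fun l _ => ?_
  by_contra hc
  obtain ⟨a, b, c, ha, hb, hc, h3, h4, h5⟩ := Finset.two_lt_card_iff.1 (not_le.1 hc)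
  simp only [Finset.mem_filter, Set.mem_toFinset] at ha hb hc
  rcases d.arc (hY ha.1) (hY hb.1) (hY hc.1) (ha.2 ▸ h2 a ha.1) (hb.2 ▸ h2 b hb.1)
    (hc.2 ▸ h2 c hc.1) with e | e | e
  exacts [h3 e, h4 e, h5 e]

/-- few fixed lines in the degenerate case -/
theorem lines_le {K E : Subgroup G} (hle : K ≤ E) {m : ℕ} (hK : Sub I K m) (h : ¬ ND I E) :
    {l : L | Fx E l}.ncard ≤ m + 2 := by
  unfold ND at h
  push Not at h
  obtain ⟨a, c, h⟩ := h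
  have key : ∀ x : P, {l : L | Fx E l ∧ I x l}.ncard ≤ m + 1 := fun x => by
    by_cases hx : Fx E x
    · rw [← hK.pt x fun g hg => hx g (hle hg)]
      exact Set.ncard_le_ncard fun l hl => ⟨fun g hg => hl.1 g (hle hg), hl.2⟩
    · refine le_trans ((Set.ncard_le_one_iff (s := {l : L | Fx E l ∧ I x l})).2
        fun h1 h2 => by_contra fun e => hx (d.fx_point e h1.1 h2.1 h1.2 h2.2)) (by omega)
  by_cases h1 : ∃ l, Fx E l ∧ l ≠ a ∧ ¬ I c l
  · obtain ⟨l, l1, l2, l3⟩ := h1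
    obtain ⟨x, x1, x2⟩ := d.meet l a
    refine le_trans (Set.ncard_le_ncard fun k hk => ?_) ((key x).trans (by omega))
    refine ⟨hk, ?_⟩
    by_cases e : k = l
    · exact e ▸ x1
    obtain ⟨u, u1, u2⟩ := d.meet k l
    have u3 : I u a := by_contra fun e1 => l3 (h u (d.fx_point e hk l1 u1 u2) e1 ▸ u2)
    exact d.uniq' l2 u2 u3 x1 x2 ▸ u1
  · push Not at h1
    refine le_trans (Set.ncard_le_ncard (t := insert a {l : L | Fx E l ∧ I c l}) fun k hk => ?_)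
      ((Set.ncard_insert_le _ _).trans (by have := key c; omega))
    by_cases e : k = a
    exacts [Or.inl e, Or.inr ⟨hk, h1 k hk e⟩]

theorem count3 {H K1 K2 K3 E : Subgroup G} {a b : G} (q : Q4 H a b) (e1 : Ext2 H K1 a)
    (e2 : Ext2 H K2 b) (e3 : Ext2 H K3 (a * b)) (e : Ext2 K1 E b) {m : ℕ}
    (h1 : {B | B ∈ O ∧ Fx K1 B}.ncard = m + 1) (h2 : {B | B ∈ O ∧ Fx K2 B}.ncard = m + 1)
    (h3 : {B | B ∈ O ∧ Fx K3 B}.ncard = m + 1) :
    3 * (m + 1) ≤ 3 * {B | B ∈ O ∧ Fx E B}.ncard +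
      2 * {l : L | Fx E l ∧ ∀ A ∈ O, I A l → ¬ Fx E A}.ncard := by
  have fP : ∀ {x : P}, Fx E x ↔ Fx H x ∧ a • x = x ∧ b • x = x := by
    intro x; rw [e.fx_iff, e1.fx_iff, and_assoc]
  have fL : ∀ {x : L}, Fx E x ↔ Fx H x ∧ a • x = x ∧ b • x = x := by
    intro x; rw [e.fx_iff, e1.fx_iff, and_assoc]
  obtain ⟨E2, e'⟩ := q.symm.ext e2
  obtain ⟨E3, e''⟩ := q.mul.ext e3
  set J := {B | B ∈ O ∧ Fx E B}
  have s1 := Set.ncard_sdiff_add_ncard_of_subset (s := J) (t := {B | B ∈ O ∧ Fx K1 B})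
    fun x hx => ⟨hx.1, (e.fx_iff.1 hx.2).1⟩
  have s2 := Set.ncard_sdiff_add_ncard_of_subset (s := J) (t := {B | B ∈ O ∧ Fx K2 B})
    fun x hx => ⟨hx.1, e2.fx_iff.2 ⟨(fP.1 hx.2).1, (fP.1 hx.2).2.2⟩⟩
  have s3 := Set.ncard_sdiff_add_ncard_of_subset (s := J) (t := {B | B ∈ O ∧ Fx K3 B})
    fun x hx => ⟨hx.1, e3.fx_iff.2 ⟨(fP.1 hx.2).1, by
      rw [mul_smul, (fP.1 hx.2).2.2, (fP.1 hx.2).2.1]⟩⟩
  have u1 := Set.ncard_union_eq (s := {B | B ∈ O ∧ Fx K1 B} \ J) (t := {B | B ∈ O ∧ Fx K2 B} \ J)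
    (Set.disjoint_left.2 fun x hx hy => hx.2 ⟨hx.1.1, e.fx_iff.2 ⟨hx.1.2, (e2.fx_iff.1 hy.1.2).2⟩⟩)
  have u2 := Set.ncard_union_eq
    (s := ({B | B ∈ O ∧ Fx K1 B} \ J) ∪ ({B | B ∈ O ∧ Fx K2 B} \ J))
    (t := {B | B ∈ O ∧ Fx K3 B} \ J) (Set.disjoint_left.2 fun x hx hy => by
      have k := (e3.fx_iff.1 hy.1.2).2
      rw [mul_smul] at k
      rcases hx with hx | hx
      · have k1 := (e1.fx_iff.1 hx.1.2).2
        exact hx.2 ⟨hx.1.1, e.fx_iff.2 ⟨hx.1.2, smul_left_cancel a (k.trans k1.symm)⟩⟩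
      · have k1 := e2.fx_iff.1 hx.1.2
        exact hx.2 ⟨hx.1.1, fP.2 ⟨k1.1, by rwa [k1.2] at k, k1.2⟩⟩)
  have u3 := d.le_two_mul (Y := ({B | B ∈ O ∧ Fx K1 B} \ J) ∪ ({B | B ∈ O ∧ Fx K2 B} \ J) ∪
      ({B | B ∈ O ∧ Fx K3 B} \ J)) (Λ := {l : L | Fx E l ∧ ∀ A ∈ O, I A l → ¬ Fx E A})
    (by rintro x ((h | h) | h) <;> exact h.1.1) (by
      rintro x ((h | h) | h)
      · obtain ⟨l, l1, l2, l3⟩ := d.pair_line e h.1.1 h.1.2 fun k => h.2 ⟨h.1.1, e.fx_iff.2 ⟨h.1.2, k⟩⟩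
        exact ⟨l, ⟨l2, fun A a1 a2 a3 => l3 A a1 a2 (fP.1 a3).2.2⟩, l1⟩
      · have k1 := e2.fx_iff.1 h.1.2
        obtain ⟨l, l1, l2, l3⟩ := d.pair_line e' h.1.1 h.1.2 fun k => h.2 ⟨h.1.1, fP.2 ⟨k1.1, k, k1.2⟩⟩
        rw [e'.fx_iff, e2.fx_iff] at l2
        exact ⟨l, ⟨fL.2 ⟨l2.1.1, l2.2, l2.1.2⟩, fun A a1 a2 a3 => l3 A a1 a2 (fP.1 a3).2.1⟩, l1⟩
      · have k1 := e3.fx_iff.1 h.1.2
        obtain ⟨l, l1, l2, l3⟩ := d.pair_line e'' h.1.1 h.1.2 fun k => h.2 ⟨h.1.1, fP.2 ⟨k1.1, k,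
          smul_left_cancel a (by rw [← mul_smul, k1.2, k])⟩⟩
        rw [e''.fx_iff, e3.fx_iff] at l2
        exact ⟨l, ⟨fL.2 ⟨l2.1.1, l2.2, smul_left_cancel a (by rw [← mul_smul, l2.1.2, l2.2])⟩,
          fun A a1 a2 a3 => l3 A a1 a2 (fP.1 a3).2.1⟩, l1⟩)
  omega

/-- no four-group of Baer involutions with fixed points on the oval -/
theorem no4 {H K1 K2 K3 : Subgroup G} {a b : G} (q : Q4 H a b) (e1 : Ext2 H K1 a)
    (e2 : Ext2 H K2 b) (e3 : Ext2 H K3 (a * b)) {N : ℕ} (hH : Sub I H N) (hN : Odd N)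
    (t1 : Three O K1) (t2 : Three O K2) (t3 : Three O K3) (n1 : ∃ p : P, Fx H p ∧ a • p ≠ p)
    (n2 : ∃ p : P, Fx H p ∧ b • p ≠ p) (n3 : ∃ p : P, Fx H p ∧ (a * b) • p ≠ p) : False := by
  obtain ⟨m, s1⟩ := d.sub (d.nd_of_three t1)
  obtain ⟨m2, s2⟩ := d.sub (d.nd_of_three t2)
  obtain ⟨m3, s3⟩ := d.sub (d.nd_of_three t3)
  have b1 := d.baer' e1 hH.toFxOrd s1.toFxOrd n1
  obtain rfl : m = m2 := Nat.pow_left_injective two_ne_zero
    (b1.symm.trans (d.baer' e2 hH.toFxOrd s2.toFxOrd n2))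
  obtain rfl : m = m3 := Nat.pow_left_injective two_ne_zero
    (b1.symm.trans (d.baer' e3 hH.toFxOrd s3.toFxOrd n3))
  obtain ⟨A1, a1, -, -, -, -, -, -, -, a2, -⟩ := t1
  obtain ⟨A2, a3, -, -, -, -, -, -, -, a4, -⟩ := t2
  obtain ⟨A3, a5, -, -, -, -, -, -, -, a6, -⟩ := t3
  have c1 := d.sub_card s1 a1 a2
  have c2 := d.sub_card s2 a3 a4
  have c3 := d.sub_card s3 a5 a6
  obtain ⟨E, e⟩ := q.ext e1
  have c4 := d.count3 q e1 e2 e3 e c1 c2 c3
  have hm : 3 ≤ m := by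
    have := s1.two
    rcases Nat.lt_or_ge 2 m with h | h
    · exact h
    · obtain rfl : m = 2 := by omega
      rw [b1] at hN
      exact absurd hN (by decide)
  set J := {B | B ∈ O ∧ Fx E B} with hJ
  set Λ := {l : L | Fx E l ∧ ∀ A ∈ O, I A l → ¬ Fx E A}
  have rem : ∀ T : Set L, (∀ l ∈ T, Fx E l ∧ ∃ A ∈ J, I A l) →
      Λ.ncard + T.ncard ≤ {l : L | Fx E l}.ncard := fun T hT => by
    rw [← Set.ncard_union_eq (Set.disjoint_left.2 fun l h1 h2 => by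
      obtain ⟨-, A, h3, h4⟩ := hT l h2
      exact h1.2 A h3.1 h4 h3.2)]
    exact Set.ncard_le_ncard (Set.union_subset (fun l h => h.1) fun l h => (hT l h).1)
  have r0 := rem ∅ (by simp)
  by_cases hE : ND I E
  · obtain ⟨k, sE⟩ := d.sub hE
    have k2 := sE.two
    rw [sE.lns] at rem r0
    rcases d.baer e s1.toFxOrd sE.toFxOrd with rfl | rfl
    · have p1 := Set.eq_of_subset_of_ncard_le (s := {p : P | Fx E p}) (t := {p : P | Fx K1 p})
        (fun q hq => (e.fx_iff.1 hq).1) (by rw [sE.pts, s1.pts])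
      have p2 := Set.eq_of_subset_of_ncard_le (s := {p : L | Fx E p}) (t := {p : L | Fx K1 p})
        (fun q hq => (e.fx_iff.1 hq).1) (by rw [sE.lns, s1.lns])
      have p3 : J.ncard = m + 1 := d.sub_card sE a1 (show A1 ∈ {p : P | Fx E p} from p1 ▸ a2)
      have p4 := d.sub_card hH a1 (e1.fx_iff.1 a2).1
      obtain ⟨y, y1, y2⟩ := Set.exists_mem_notMem_of_ncard_lt_ncard
        (s := {B | B ∈ O ∧ Fx K1 B}) (t := {B | B ∈ O ∧ Fx H B}) (by rw [c1, p4, b1]; nlinarith)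
      have y3 : a • y ≠ y := fun h => y2 ⟨y1.1, e1.fx_iff.2 ⟨y1.2, h⟩⟩
      obtain ⟨l, l1, l2, -⟩ := d.pair_line e1 y1.1 y1.2 y3
      have l3 : Fx E l := show l ∈ {p : L | Fx E p} from p2 ▸ l2
      have hJ' : ∀ K : Subgroup G, (∀ x : P, Fx E x → Fx K x) → {B | B ∈ O ∧ Fx K B}.ncard = m + 1 →
          ¬ Fx K y := fun K h1 h2 h3 => by
        have := Set.eq_of_subset_of_ncard_le (s := J) (t := {B | B ∈ O ∧ Fx K B})
          (fun x hx => ⟨hx.1, h1 x hx.2⟩) (by rw [p3, h2])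
        exact y3 ((show y ∈ J from this ▸ ⟨y1.1, h3⟩).2 a (e.le e1.mem))
      rcases d.line_cases (l3 a (e.le e1.mem)) (l3 b e.mem) y1.1 l1 with h | h | h
      · exact y3 h
      · exact hJ' K2 (fun x hx => e2.fx_iff.2 ⟨fun g hg => hx g (e.le (e1.le hg)), hx b e.mem⟩) c2
          (e2.fx_iff.2 ⟨y1.2, h⟩)
      · exact hJ' K3 (fun x hx => e3.fx_iff.2 ⟨fun g hg => hx g (e.le (e1.le hg)),
          hx _ (mul_mem (e.le e1.mem) e.mem)⟩) c3
          (e3.fx_iff.2 ⟨y1.2, by rw [mul_smul, ← h, ← mul_smul, y1.2 _ q.sa]⟩)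
    · rcases J.eq_empty_or_nonempty with h | ⟨A, hA⟩
      · rw [h, Set.ncard_empty] at c4
        nlinarith
      · have p3 : J.ncard = k + 1 := d.sub_card sE hA.1 hA.2
        obtain ⟨B, hB, hBA⟩ := Set.exists_ne_of_one_lt_ncard (s := J) (by omega) A
        have u1 := Set.ncard_union_add_ncard_inter {l | Fx E l ∧ I A l} {l | Fx E l ∧ I B l}
        have u2 : ({l | Fx E l ∧ I A l} ∩ {l | Fx E l ∧ I B l}).ncard ≤ 1 :=
          (Set.ncard_le_one_iff).2 fun h1 h2 => d.uniq hBA h1.2.2 h1.1.2 h2.2.2 h2.1.2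
        have u3 := rem ({l | Fx E l ∧ I A l} ∪ {l | Fx E l ∧ I B l}) (by
          rintro l (h | h)
          exacts [⟨h.1, A, hA, h.2⟩, ⟨h.1, B, hB, h.2⟩])
        rw [sE.pt A hA.2, sE.pt B hB.2] at u1
        nlinarith
  · have u0 := d.lines_le e.le s1 hE
    have j2 : J.ncard ≤ 2 := by
      by_contra hc
      obtain ⟨A, B, C, hA, hB, hC, h1, h2, h3⟩ := (Set.two_lt_ncard_iff (s := J)).1 (not_le.1 hc)
      exact hE (d.nd_of_three ⟨A, hA.1, B, hB.1, C, hC.1, h1, h2, h3, hA.2, hB.2, hC.2⟩)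
    rcases Nat.lt_or_ge J.ncard 1 with h | h
    · omega
    obtain ⟨A, hA⟩ := (Set.ncard_pos (s := J)).1 h
    obtain ⟨s, hs⟩ := d.exists_tan hA.1
    have hs' := d.fx_tan hA.1 hs hA.2
    rcases Nat.lt_or_ge 1 J.ncard with h | h
    · obtain ⟨B, hB, hBA⟩ := Set.exists_ne_of_one_lt_ncard h A
      obtain ⟨t, ht⟩ := d.exists_tan hB.1
      obtain ⟨l, l1, l2⟩ := d.join A B
      have u3 := rem {s, t, l} (by
        rintro _ (rfl | rfl | rfl)
        exacts [⟨hs', A, hA, hs.1⟩, ⟨d.fx_tan hB.1 ht hB.2, B, hB, ht.1⟩,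
          ⟨d.fx_line hBA hB.2 hA.2 l2 l1, A, hA, l1⟩])
      rw [Set.ncard_eq_three.2 ⟨s, t, l, fun e => hBA (hs.2 B hB.1 (e ▸ ht.1)),
        fun e => hBA (hs.2 B hB.1 (e ▸ l2)), fun e => hBA (ht.2 A hA.1 (e ▸ l1)).symm, rfl⟩] at u3
      omega
    · have u3 := rem {s} (by rintro _ rfl; exact ⟨hs', A, hA, hs.1⟩)
      rw [Set.ncard_singleton] at u3
      omega

theorem sub_bot : Sub I (⊥ : Subgroup G) n := by
  obtain ⟨A, -⟩ := (Set.ncard_pos (s := O)).1 (by rw [d.card]; omega)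
  exact ⟨d.fxOrd_bot A, d.two_le, fun p _ => by simp [Fx, d.rep]⟩

theorem moves {g : G} (h : g ≠ 1) : ∃ p : P, Fx (⊥ : Subgroup G) p ∧ g • p ≠ p := by
  by_contra hc
  push Not at hc
  exact h (d.faith g fun p => hc p (by simp [Fx]))

omit d in
theorem ext_bot {t : G} (h : t * t = 1) : Ext2 ⊥ (zpowers t) t := by
  refine ⟨bot_le, mem_zpowers t, by simp, by simp, by simp [h], ?_⟩
  rintro _ ⟨k, rfl⟩
  have h2 : t ^ (2 : ℤ) = 1 := by rw [zpow_two, h]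
  rcases Int.even_or_odd' k with ⟨j, rfl | rfl⟩
  · left; simp [zpow_mul, h2]
  · right; simp [zpow_add, zpow_mul, h2, h]

theorem sq_of_nd {t : G} (h1 : t ≠ 1) (h2 : t * t = 1) {m : ℕ} (h : Sub I (zpowers t) m) :
    n = m ^ 2 := d.baer' (ext_bot h2) d.sub_bot.toFxOrd h.toFxOrd (d.moves h1)

theorem bb {a b : G} (ha : a * a = 1) (hb : b * b = 1) (hab : a * b * (a * b) = 1) (a1 : a ≠ 1)
    (b1 : b ≠ 1) (c1 : a * b ≠ 1) (t1 : Three O (zpowers a)) (t2 : Three O (zpowers b)) :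
    ¬ Three O (zpowers (a * b)) := fun t3 =>
  d.no4 ⟨by simp, by simp, by simp, by simp, by simp [ha], by simp [hb], by simp [hab]⟩
    (ext_bot ha) (ext_bot hb) (ext_bot hab) d.sub_bot d.odd t1 t2 t3 (d.moves a1) (d.moves b1)
    (d.moves c1)

theorem moves' {β a : G} (h1 : β ≠ 1) (h2 : β * β = 1) (ha : a * a = β) {m : ℕ}
    (h : Sub I (zpowers β) m) : ∃ p : P, Fx (zpowers β) p ∧ a • p ≠ p := by
  by_contra hc
  push Not at hc
  refine h1 (d.eq_one fun A hA => by_contra fun hne => hne ?_)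
  obtain ⟨l, l1, l2, -⟩ := d.pair_line (ext_bot h2) hA (by simp [Fx]) hne
  obtain ⟨p, q, p1, q1, hpq⟩ := (Set.one_lt_ncard_iff (s := {p | Fx (zpowers β) p ∧ I p l})).1
    (by rw [h.line l l2]; have := h.two; omega)
  rw [← ha]
  exact d.sq_fix (d.fix_line hpq (hc p p1.1) (hc q q1.1) p1.2 q1.2) hA l1

theorem noQ8 {K : Subgroup G} (t : Three O K) {a b β : G} (ha : a ∈ K) (hb : b ∈ K) (h1 : β ≠ 1)
    (h2 : β * β = 1) (a2 : a * a = β) (b2 : b * b = β) (c2 : a * b * (a * b) = β) : False := by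
  have cj : ∀ x : G, x * x = β → (∀ g ∈ zpowers β, x * g * x⁻¹ ∈ zpowers β) ∧
      ∀ g ∈ zpowers β, x⁻¹ * g * x ∈ zpowers β := fun x hx => by
    have : Commute x β := hx ▸ (Commute.refl x).mul_right (Commute.refl x)
    constructor <;> rintro _ ⟨k, rfl⟩
    · simp [(this.zpow_right k).eq]
    · simp [mul_assoc, ← (this.zpow_right k).eq]
  have ex : ∀ x ∈ K, x * x = β → ∃ M, Ext2 (zpowers β) M x ∧ Three O M := fun x hx e => by
    obtain ⟨M, hM⟩ := exists_ext (cj x e).1 (cj x e).2 (e ▸ mem_zpowers _)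
    refine ⟨M, hM, t.mono fun g hg => ?_⟩
    have : zpowers β ≤ K := zpowers_le.2 (e ▸ mul_mem hx hx)
    exact (hM.cases g hg).elim (fun h => this h) fun h => (mul_mem_cancel_right hx).1 (this h)
  obtain ⟨K1, e1, t1⟩ := ex a ha a2
  obtain ⟨K2, e2, t2⟩ := ex b hb b2
  obtain ⟨K3, e3, t3⟩ := ex _ (mul_mem ha hb) c2
  obtain ⟨N, hN⟩ := d.sub (d.nd_of_three (t1.mono e1.le))
  have hO := d.odd
  rw [d.sq_of_nd h1 h2 hN, Nat.odd_pow_iff two_ne_zero] at hO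
  exact d.no4 ⟨e1.conj, e1.conj', e2.conj, e2.conj', e1.sq, e2.sq, e3.sq⟩ e1 e2 e3 hN hO t1 t2 t3
    (d.moves' h1 h2 a2 hN) (d.moves' h1 h2 b2 hN) (d.moves' h1 h2 c2 hN)

theorem cyc [Finite G] {K : Subgroup G} (hK : IsPGroup 2 K) (t : Three O K) : IsCyclic K := by
  have := Fact.mk Nat.prime_two
  have sq : ∀ {x : G}, orderOf x = 2 → x * x = 1 ∧ x ≠ 1 := fun {x} h =>
    ⟨by rw [← pow_two, ← h, pow_orderOf_eq_one], fun e => by simp [e] at h⟩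
  have hu : ∀ x y : K, orderOf x = 2 → orderOf y = 2 → y ∈ zpowers x := fun x y hx hy => by
    rw [← orderOf_coe] at hx hy
    obtain ⟨z, z1, z2, z3⟩ := exists_central_prime Nat.prime_two hK
      (fun e => (sq hx).2 ((eq_bot_iff_forall _).1 e _ x.2))
    have key : ∀ x : K, orderOf (x : G) = 2 → x = ⟨z, z1⟩ := fun x hx => by
      by_contra hne
      refine d.bb (sq hx).1 (sq z2).1 ?_ (sq hx).2 (sq z2).2 ?_ (t.mono (zpowers_le.2 x.2))
        (t.mono (zpowers_le.2 z1)) (t.mono (zpowers_le.2 (mul_mem x.2 z1)))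
      · rw [mul_assoc, ← mul_assoc z, ← z3 _ x.2, mul_assoc, (sq z2).1, mul_one, (sq hx).1]
      · exact fun e => hne (Subtype.ext (mul_right_cancel (e.trans (sq z2).1.symm)))
    rw [key x hx, key y hy]
    exact mem_zpowers _
  rcases Frob.cyclic_or_quaternion_of_forall_mem_zpowers hK hu with h | ⟨-, k, hk, ⟨e⟩⟩
  · exact h
  · exfalso
    obtain ⟨k, rfl⟩ := Nat.exists_eq_add_of_le' hk
    have key : ∀ u : QuaternionGroup (2 ^ (k + 1)), u * u = .a (2 ^ (k + 1) : ℕ) →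
        (e.symm u : G) * e.symm u = e.symm (.a (2 ^ (k + 1) : ℕ)) := fun u h => by
      rw [← coe_mul, ← map_mul, h]
    have h0 : ((2 ^ (k + 1) : ℕ) : ZMod (2 * 2 ^ (k + 1))) + (2 ^ (k + 1) : ℕ) = 0 := by
      rw [← Nat.cast_add, ← two_mul, ZMod.natCast_self]
    refine d.noQ8 t (e.symm (.xa 0)).2 (e.symm (.xa (2 ^ k : ℕ))).2
      (β := e.symm (.a (2 ^ (k + 1) : ℕ))) ?_ ?_ (key _ (by simp)) (key _ (by simp)) ?_
    · rw [Ne, OneMemClass.coe_eq_one, MulEquiv.map_eq_one_iff, QuaternionGroup.one_def,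
        QuaternionGroup.a.injEq, ZMod.natCast_eq_zero_iff]
      exact fun h => by have := Nat.le_of_dvd (by positivity) h; have : 0 < 2 ^ (k + 1) := by positivity
                        omega
    · rw [← coe_mul, ← map_mul, QuaternionGroup.a_mul_a, h0, ← QuaternionGroup.one_def, map_one,
        coe_one]
    · rw [← coe_mul, ← map_mul]
      refine key _ ?_
      rw [QuaternionGroup.xa_mul_xa, QuaternionGroup.a_mul_a]
      congr 1
      push_cast at h0 ⊢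
      linear_combination h0

end Ov

end CfsgLib.Oval
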