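import Mathlib
import Cfsg.Agent.Lib.Oval.Geo2
import Cfsg.Agent.Lib.Invol.Four
import Cfsg.Agent.Lib.Tech.Invol

/-! Abstract permutation groups with the properties of a group acting on an oval. -/

set_option autoImplicit false

namespace CfsgLib.Oval

open MulAction CfsgLib.Perm Subgroup

variable {G : Type*} [Group G] (X : Type*) [MulAction G X]

/-- at most two fixed points -/
def L2 (g : G) : Prop := ∀ x y w : X, g • x = x → g • y = y → g • w = w → x = y ∨ x = w ∨ y = w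

/-- an involution with at most two fixed points -/
structure Hi (t : G) : Prop where
  ne : t ≠ 1
  sq : t * t = 1
  l2 : L2 X t

/-- the axioms -/
structure Ax (G X : Type*) [Group G] [MulAction G X] : Prop where
  card : Nat.card X % 4 = 2
  par : ∀ t : G, t ≠ 1 → t * t = 1 → {x : X | t • x = x}.ncard % 4 = 2
  prod : ∀ {a b : G}, Hi X a → Hi X b → a ≠ b → L2 X (a * b)
  uniq : ∀ {a b : G} {x y : X}, Hi X a → Hi X b → x ≠ y → a • x = x → a • y = y → b • x = x →
    b • y = y → a = b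
  cyc : ∀ {K : Subgroup G}, IsPGroup 2 K → ∀ {x y w : X}, x ≠ y → x ≠ w → y ≠ w → Fx K x →
    Fx K y → Fx K w → IsCyclic K
  bb : ∀ {a b : G}, a ≠ 1 → a * a = 1 → b ≠ 1 → b * b = 1 → a * b = b * a → a ≠ b → ¬ L2 X a →
    ¬ L2 X b → L2 X (a * b)

variable {X}

theorem conj_fix {t : G} (g : G) {x : X} : (g * t * g⁻¹) • x = x ↔ t • g⁻¹ • x = g⁻¹ • x := by
  rw [mul_smul, mul_smul, eq_inv_smul_iff]

theorem L2.conj {t : G} (h : L2 X t) (g : G) : L2 X (g * t * g⁻¹) := fun x y w h1 h2 h3 => by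
  simpa using h _ _ _ ((conj_fix g).1 h1) ((conj_fix g).1 h2) ((conj_fix g).1 h3)

theorem Hi.conj {t : G} (h : Hi X t) (g : G) : Hi X (g * t * g⁻¹) :=
  ⟨by simpa using h.ne, by simp [mul_assoc, ← mul_assoc t t, h.sq], h.l2.conj g⟩

theorem Hi.inv {t : G} (h : Hi X t) : t⁻¹ = t := inv_eq_of_mul_eq_one_right h.sq

theorem Hi.ord {t : G} (h : Hi X t) : orderOf t = 2 := Tech.orderOf_two_of_mul_self h.sq h.ne

theorem Hi.mm {t : G} (h : Hi X t) (g : G) : t * (t * g) = g := by rw [← mul_assoc, h.sq, one_mul]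

theorem L2.of_pow {t : G} {k : ℕ} (h : L2 X (t ^ k)) : L2 X t := fun x y w h1 h2 h3 =>
  h x y w (fx_zpowers.2 h1 _ (npow_mem_zpowers t k)) (fx_zpowers.2 h2 _ (npow_mem_zpowers t k))
    (fx_zpowers.2 h3 _ (npow_mem_zpowers t k))

theorem comm_fix {a b : G} (h : a * b = b * a) {x : X} (hx : a • x = x) : a • b • x = b • x := by
  rw [← mul_smul, h, mul_smul, hx]

theorem four_dvd [Finite X] {a b : G} (ha : orderOf a = 2) (hb : orderOf b = 2) (hab : a ≠ b)
    (hc : Commute a b) (A : Set X) (h1 : ∀ x ∈ A, a • x ∈ A ∧ b • x ∈ A)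
    (h2 : ∀ x ∈ A, a • x ≠ x ∧ b • x ≠ x ∧ (a * b) • x ≠ x) : 4 ∣ A.ncard := by
  have hm := Invol.mem_closure_pair_of_commute (Tech.mul_self_of_orderOf_two ha)
    (Tech.mul_self_of_orderOf_two hb) hc
  refine dvd_ncard_of_gorb (closure {a, b}) A (fun g hg x hx => ?_) fun x hx => ?_
  · rcases (hm g).1 hg with rfl | rfl | rfl | rfl
    exacts [by simpa using hx, (h1 x hx).1, (h1 x hx).2, by
      rw [mul_smul]; exact (h1 _ (h1 x hx).2).1]
  · rw [ncard_gorb_of_free _ _ fun g hg e => ?_, Invol.card_closure_pair_of_commute ha hb hab hc]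
    rcases (hm g).1 hg with rfl | rfl | rfl | rfl
    exacts [rfl, absurd e (h2 x hx).1, absurd e (h2 x hx).2.1, absurd e (h2 x hx).2.2]

namespace Ax
variable [Finite X] (ax : Ax G X)
include ax

theorem pair {t : G} (h : Hi X t) : ∃ x y : X, x ≠ y ∧ ∀ w, t • w = w ↔ w = x ∨ w = y := by
  have h1 := ax.par t h.ne h.sq
  have h2 : {x : X | t • x = x}.ncard ≤ 2 := by
    by_contra hc
    obtain ⟨x, y, w, a1, a2, a3, b1, b2, b3⟩ :=
      (Set.two_lt_ncard_iff (s := {x : X | t • x = x})).1 (not_le.1 hc)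
    rcases h.l2 x y w a1 a2 a3 with e | e | e
    exacts [b1 e, b2 e, b3 e]
  obtain ⟨x, y, h3, h4⟩ := Set.ncard_eq_two.1 (show {x : X | t • x = x}.ncard = 2 by omega)
  exact ⟨x, y, h3, fun w => Set.ext_iff.1 h4 w⟩

theorem pair' {t : G} (h : Hi X t) {x : X} (hx : t • x = x) :
    ∃ y : X, x ≠ y ∧ ∀ w, t • w = w ↔ w = x ∨ w = y := by
  obtain ⟨u, v, h1, h2⟩ := ax.pair h
  rcases (h2 x).1 hx with rfl | rfl
  exacts [⟨v, h1, h2⟩, ⟨u, h1.symm, fun w => (h2 w).trans or_comm⟩]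

/-- an element commuting with `t` and fixing one fixed point of `t` fixes both -/
theorem fix_both {t g : G} (h : Hi X t) (hc : t * g = g * t) {x y : X} (hx : t • x = x)
    (hy : t • y = y) (e : g • x = x) : g • y = y := by
  rcases h.l2 x y (g • y) hx hy (comm_fix hc hy) with e1 | e1 | e1
  · rw [← e1, e]
  · rw [← smul_left_cancel g (e.trans e1), e]
  · exact e1.symm

theorem uniq1 {a b : G} (ha : Hi X a) (hb : Hi X b) (hc : a * b = b * a) {x : X} (h1 : a • x = x)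
    (h2 : b • x = x) : a = b := by
  obtain ⟨y, h3, h4⟩ := ax.pair' ha h1
  have h5 := (h4 y).2 (Or.inr rfl)
  exact ax.uniq ha hb h3 h1 h5 h2 (ax.fix_both ha hc h1 h5 h2)

omit [Finite X] in
theorem mul {a b : G} (ha : Hi X a) (hb : Hi X b) (hc : a * b = b * a) (hab : a ≠ b) :
    Hi X (a * b) :=
  ⟨fun e => hab (mul_right_cancel (e.trans hb.sq.symm)),
    Invol.mul_mul_self_of_commute ha.sq hb.sq hc, ax.prod ha hb hab⟩

omit [Finite X] in
theorem eq_of_three {a b : G} (ha : Hi X a) (hb : Hi X b) {x y w : X} (h1 : x ≠ y) (h2 : x ≠ w)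
    (h3 : y ≠ w) (e1 : (a * b) • x = x) (e2 : (a * b) • y = y) (e3 : (a * b) • w = w) : a = b := by
  by_contra hne
  rcases ax.prod ha hb hne x y w e1 e2 e3 with e | e | e
  exacts [h1 e, h2 e, h3 e]

/-- an involution centralising a four-group of homologies and fixing four of the six points -/
theorem cfix {z h φ : G} (hz : Hi X z) (hh : Hi X h) (hne : h ≠ z) (hc : h * z = z * h)
    (f1 : φ ≠ 1) (f2 : φ * φ = 1) (c1 : z * φ = φ * z) (c2 : h * φ = φ * h) {P B C : X}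
    (zP : z • P = P) (hB : h • B = B) (hC : (h * z) • C = C) (fP : φ • P = P) (fB : φ • B = B) :
    φ • C = C := by
  by_contra hn
  obtain ⟨Q, p1, p2⟩ := ax.pair' hz zP
  obtain ⟨B', b1, b2⟩ := ax.pair' hh hB
  have zQ := (p2 Q).2 (Or.inr rfl)
  have hB' := (b2 B').2 (Or.inr rfl)
  have k : ∀ x : X, z • x = x → h • x = x → False := fun x h1 h2 => hne (ax.uniq1 hh hz hc h2 h1)
  have h1 := ax.par φ f1 f2
  have hs : {x : X | z • x = x} ∪ {x : X | h • x = x} ⊆ {x : X | φ • x = x} := by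
    rintro x (hx | hx)
    exacts [ax.fix_both hz c1 zP hx fP, ax.fix_both hh c2 hB hx fB]
  have h2 := Set.ncard_sdiff_add_ncard_of_subset hs
  rw [Set.ncard_union_eq (s := {x : X | z • x = x}) (t := {x : X | h • x = x})
    (Set.disjoint_left.2 k), (Set.ncard_eq_two (s := {x : X | z • x = x})).2 ⟨P, Q, p1, Set.ext p2⟩,
    (Set.ncard_eq_two (s := {x : X | h • x = x})).2 ⟨B, B', b1, Set.ext b2⟩] at h2
  have h3 := four_dvd hh.ord hz.ord hne hc
    ({x : X | φ • x = x} \ ({x : X | z • x = x} ∪ {x : X | h • x = x})) (fun x hx => ?_)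
    fun x hx => ⟨fun e => hx.2 (Or.inr e), fun e => hx.2 (Or.inl e), fun e =>
      hn (ax.fix_both (ax.mul hh hz hc hne) (by rw [mul_assoc, c1, ← mul_assoc, c2, mul_assoc])
        e hC hx.1)⟩
  · omega
  · have k1 : ∀ {a b : G}, a * b = b * a → a • b • x = b • x → a • x = x := fun {a b} h1 h2 =>
      smul_left_cancel b (by rw [← mul_smul, ← h1, mul_smul, h2])
    refine ⟨⟨comm_fix c2.symm hx.1, ?_⟩, comm_fix c1.symm hx.1, ?_⟩ <;> rintro (e | e)
    exacts [hx.2 (Or.inl (k1 hc.symm e)), hx.2 (Or.inr (k1 rfl e)), hx.2 (Or.inl (k1 rfl e)),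
      hx.2 (Or.inr (k1 hc e))]

end Ax

/-- the central homology and its two fixed points -/
structure D1 (z : G) (P Q : X) : Prop where
  hz : Hi X z
  ne : P ≠ Q
  zP : z • P = P
  zQ : z • Q = Q
  pres : ∀ s : G, (s • P = P ∧ s • Q = Q) ∨ (s • P = Q ∧ s • Q = P)

theorem Ax.exists_D1 [Finite X] [Finite G] (ax : Ax G X) (hG : IsPGroup 2 G) {a b : G} (ha : Hi X a)
    (hb : Hi X b) (hab : a ≠ b) (hc : a * b = b * a) :
    ∃ (z h : G) (P Q : X), D1 z P Q ∧ Hi X h ∧ h ≠ z := by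
  have := Fact.mk Nat.prime_two
  obtain ⟨P, hP⟩ : ∃ P : X, (gorb (⊤ : Subgroup G) P).ncard ≤ 2 := by
    by_contra hn
    push Not at hn
    have h1 := dvd_ncard_of_gorb (⊤ : Subgroup G) (d := 4) (Set.univ : Set X) (by simp) fun x _ => by
      obtain ⟨k, hk⟩ := IsPGroup.iff_card.1 (hG.to_subgroup ⊤)
      obtain ⟨j, -, hj⟩ := (Nat.dvd_prime_pow Nat.prime_two).1
        (hk ▸ Dvd.intro _ (card_eq_gorb_mul ⊤ x).symm)
      have h2 := hn x
      rw [hj] at h2 ⊢
      exact pow_dvd_pow 2 (show 1 < j from (Nat.pow_lt_pow_iff_right one_lt_two).1 h2)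
    have := ax.card
    rw [Set.ncard_univ] at h1
    omega
  obtain ⟨s, hs⟩ : ∃ s : G, s • P ≠ P := by
    by_contra hn
    push Not at hn
    exact hab (ax.uniq1 ha hb hc (hn a) (hn b))
  have key : ∀ g : G, g • P = P ∨ g • P = s • P := fun g => by
    by_contra hn
    push Not at hn
    have := (Set.two_lt_ncard_iff (s := gorb (⊤ : Subgroup G) P)).2 ⟨g • P, P, s • P,
      ⟨g, trivial, rfl⟩, ⟨1, trivial, one_smul _ _⟩, ⟨s, trivial, rfl⟩, hn.1, hn.2, hs.symm⟩
    omega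
  have pres : ∀ g : G, (g • P = P ∧ g • s • P = s • P) ∨ (g • P = s • P ∧ g • s • P = P) :=
    fun g => by
      have k := key (g * s)
      rw [mul_smul] at k
      rcases key g with e | e
      · exact Or.inl ⟨e, k.resolve_left fun e1 => hs (smul_left_cancel g (e1.trans e.symm))⟩
      · exact Or.inr ⟨e, k.resolve_right fun e1 => hs (smul_left_cancel g (e1.trans e.symm))⟩
  rcases pres a with e | e
  · exact ⟨a, b, P, s • P, ⟨ha, hs.symm, e.1, e.2, pres⟩, hb, hab.symm⟩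
  rcases pres b with e' | e'
  · exact ⟨b, a, P, s • P, ⟨hb, hs.symm, e'.1, e'.2, pres⟩, ha, hab⟩
  · exact ⟨a * b, a, P, s • P, ⟨ax.mul ha hb hc hab, hs.symm, by rw [mul_smul, e'.1, e.2],
      by rw [mul_smul, e'.2, e.1], pres⟩, ha, fun e1 => hb.ne (by simpa using e1)⟩

/-- noncentral homologies -/
def HH (X : Type*) [MulAction G X] (z e : G) : Prop := Hi X e ∧ e ≠ z

namespace D1
variable {z : G} {P Q : X} (ax : Ax G X) (d : D1 z P Q)
include d

theorem fixQ {s : G} (h : s • P = P) : s • Q = Q :=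
  ((d.pres s).resolve_right fun e => d.ne (h.symm.trans e.1)).2

theorem sqP (s : G) : (s * s) • P = P := by
  rcases d.pres s with e | e
  · rw [mul_smul, e.1, e.1]
  · rw [mul_smul, e.1, e.2]

include ax

theorem eq_z {e : G} (he : Hi X e) (h : e • P = P) : e = z :=
  ax.uniq he d.hz d.ne h (d.fixQ h) d.zP d.zQ

theorem cen (s : G) : s * z = z * s := by
  rw [← mul_inv_eq_iff_eq_mul]
  refine d.eq_z ax (d.hz.conj s) ((conj_fix s).2 ?_)
  rcases d.pres s⁻¹ with e | e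
  · rw [e.1, d.zP]
  · rw [e.1, d.zQ]

theorem swap {e : G} (he : HH X z e) : e • P = Q ∧ e • Q = P :=
  (d.pres e).resolve_left fun h => he.2 (d.eq_z ax he.1 h.1)

theorem conj {e : G} (he : HH X z e) (s : G) : HH X z (s * e * s⁻¹) :=
  ⟨he.1.conj s, fun h => he.2 (by rwa [mul_inv_eq_iff_eq_mul, ← d.cen ax s, mul_right_inj] at h)⟩

theorem mul_z {e : G} (he : HH X z e) : HH X z (e * z) :=
  ⟨ax.mul he.1 d.hz (d.cen ax e) he.2, fun h => he.1.ne (by simpa using h)⟩

theorem mulP {e e' : G} (he : HH X z e) (he' : HH X z e') : (e * e') • P = P := by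
  rw [mul_smul, (d.swap ax he').1, (d.swap ax he).2]

theorem ne_fix {e : G} (he : HH X z e) {B : X} (hB : e • B = B) : P ≠ B ∧ Q ≠ B :=
  ⟨fun h => d.ne (by rw [← (d.swap ax he).1, h, hB]), fun h =>
    d.ne (by rw [← (d.swap ax he).2, h, hB])⟩

variable [Finite X]

theorem fix_or {h u : G} (hh : HH X z h) (hc : h * u = u * h) {B : X} (hB : h • B = B) :
    u • B = B ∨ (u * z) • B = B := by
  have h1 : z • B ≠ B := fun e => hh.2 (ax.uniq1 hh.1 d.hz (d.cen ax h) hB e)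
  rcases hh.1.l2 B (z • B) (u • B) hB (comm_fix (d.cen ax h) hB) (comm_fix hc hB) with e | e | e
  · exact absurd e.symm h1
  · exact Or.inl e.symm
  · right
    rw [d.cen ax u, mul_smul, ← e, ← mul_smul, d.hz.sq, one_smul]

theorem lemU {h a b : G} (hh : HH X z h) (ha : HH X z a) (hb : HH X z b)
    (e : a * h * a⁻¹ = b * h * b⁻¹) : b = a ∨ b = a * z := by
  obtain ⟨B, B', -, hB⟩ := ax.pair hh.1
  have h1 := (hB B).2 (Or.inl rfl)
  have hc : h * (a * b) = a * b * h := by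
    rw [ha.1.inv, hb.1.inv] at e
    calc h * (a * b) = a * (a * h * a) * b := by simp only [mul_assoc, ha.1.mm]
      _ = _ := by rw [e]; simp only [mul_assoc, hb.1.sq, mul_one]
  have hP := d.mulP ax ha hb
  obtain ⟨n1, n2⟩ := d.ne_fix ax hh h1
  rcases d.fix_or ax hh hc h1 with k | k
  · exact Or.inl (ax.eq_of_three ha.1 hb.1 d.ne n1 n2 hP (d.fixQ hP) k).symm
  by_cases hab : a = b
  · exact Or.inl hab.symm
  have h2 : a * (b * a * b⁻¹) = (a * b * z) * (a * b * z) := by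
    rw [hb.1.inv, mul_assoc (a * b) z, ← d.cen ax, mul_assoc (a * b) z, d.hz.sq]; group
  have h3 := d.mulP ax ha (d.conj ax ha b)
  have h4 := ax.eq_of_three ha.1 (ha.1.conj b) d.ne n1 n2 h3 (d.fixQ h3)
    (by rw [h2, mul_smul, k, k])
  right
  rw [← d.eq_z ax (ax.mul ha.1 hb.1 (eq_mul_inv_iff_mul_eq.1 h4) hab) hP, ha.1.mm]

theorem inverts {h t : G} (hh : HH X z h) (ht : HH X z (h * t)) : h * t = t⁻¹ * h := by
  rw [← ht.1.inv, mul_inv_rev, hh.1.inv]

theorem pow_mem {h t : G} (hh : HH X z h) (ht : HH X z (h * t)) (k : ℕ) : HH X z (h * t ^ k) := by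
  induction k using Nat.twoStepInduction with
  | zero => simpa using hh
  | one => simpa using ht
  | more k ih _ =>
    have := d.conj ax ih t⁻¹
    rwa [← mul_assoc, ← d.inverts ax hh ht, inv_inv, mul_assoc, mul_assoc, ← pow_succ, ← pow_succ']
      at this

theorem sq_fib {h t u : G} (hh : HH X z h) (ht : HH X z (h * t)) (hu : HH X z (h * u))
    (e : t * t = u * u) : u = t ∨ u = t * z := by
  have k : ∀ {t : G}, HH X z (h * t) → h * t * h * (h * t)⁻¹ = h * (t * t) := fun ht => by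
    rw [ht.1.inv]; simp only [mul_assoc, hh.1.mm]
  simpa [mul_assoc] using d.lemU ax hh ht hu (by rw [k ht, k hu, e])

theorem exists_r [Finite G] (hG : IsPGroup 2 G) {h : G} (hh : HH X z h) :
    ∃ r : G, ∀ t, HH X z (h * t) ↔ t ∈ zpowers r := by
  have := Fact.mk Nat.prime_two
  obtain ⟨r, hr, hmax⟩ := Set.exists_max_image {t | HH X z (h * t)} orderOf (Set.toFinite _)
    ⟨z, d.mul_z ax hh⟩
  have hR : ∀ t ∈ zpowers r, HH X z (h * t) := fun t ht => by
    obtain ⟨k, rfl⟩ := (mem_powers_iff_mem_zpowers.2 ht)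
    exact d.pow_mem ax hh hr k
  obtain ⟨a, ha⟩ := (IsPGroup.iff_orderOf.1 hG) r
  have h2 := hmax z (d.mul_z ax hh)
  rw [d.hz.ord, ha] at h2
  obtain ⟨a, rfl⟩ : ∃ b, a = b + 1 := Nat.exists_eq_succ_of_ne_zero (by rintro rfl; omega)
  have hr1 : r ^ 2 ^ a ≠ 1 := pow_ne_one_of_lt_orderOf (by positivity) (by rw [ha]; omega)
  have hz : z ∈ zpowers r := by
    rcases d.sq_fib ax hh (t := 1) (by simpa using hh) (d.pow_mem ax hh hr (2 ^ a))
      (by rw [← pow_add, ← two_mul, ← pow_succ', ← ha, pow_orderOf_eq_one, one_mul]) with e | e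
    · exact absurd e hr1
    · rw [one_mul] at e; exact e ▸ npow_mem_zpowers r _
  refine ⟨r, fun t => ⟨fun ht => ?_, hR t⟩⟩
  obtain ⟨j, hj⟩ := hG t
  induction j generalizing t with
  | zero => rw [pow_zero, pow_one] at hj; exact hj ▸ one_mem _
  | succ j ih =>
    obtain ⟨i, hi⟩ := mem_powers_iff_mem_zpowers.2 (ih (t ^ 2) (d.pow_mem ax hh ht 2)
      (by rw [← pow_mul, ← pow_succ', hj]))
    simp only at hi
    rcases Nat.even_or_odd' i with ⟨i, rfl | rfl⟩
    · rcases d.sq_fib ax hh (d.pow_mem ax hh hr i) ht (by rw [← pow_add, ← two_mul, hi, pow_two])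
        with e | e <;> rw [e]
      exacts [npow_mem_zpowers r i, mul_mem (npow_mem_zpowers r i) hz]
    · exfalso
      obtain ⟨c, hc⟩ := (IsPGroup.iff_orderOf.1 hG) t
      have h3 := hmax t ht
      rw [ha, hc, Nat.pow_le_pow_iff_right (by omega)] at h3
      have h4 : t ^ 2 ^ (a + 1) = 1 := orderOf_dvd_iff_pow_eq_one.1 (hc ▸ pow_dvd_pow 2 h3)
      rw [pow_succ', pow_mul, ← hi, ← pow_mul, ← orderOf_dvd_iff_pow_eq_one, ha, pow_succ'] at h4
      have := Nat.dvd_of_mul_dvd_mul_right (by positivity) h4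
      omega

end D1

end CfsgLib.Oval
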