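import Mathlib
import Cfsg.Agent.Lib.Oval.Grp1
import Cfsg.Agent.Lib.Transfer.Thompson

/-! Structure of the Sylow 2-subgroup. -/

set_option autoImplicit false

namespace CfsgLib.Oval

open MulAction CfsgLib.Perm Subgroup

section W
variable {W : Type*} [Group W] [Finite W] (hW : IsPGroup 2 W) {c : W}
include hW

theorem ord_ne (h1 : c ≠ 1) (i j : ℕ) : orderOf (c ^ (2 * i + 1)) ≠ orderOf (c ^ (2 * j)) := by
  have := Fact.mk Nat.prime_two
  obtain ⟨a, ha⟩ := (IsPGroup.iff_orderOf.1 hW) c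
  obtain ⟨a, rfl⟩ : ∃ b, a = b + 1 := Nat.exists_eq_succ_of_ne_zero (by
    rintro rfl; exact h1 (orderOf_eq_one_iff.1 ha))
  intro e
  have h4 := (orderOf_eq_orderOf_iff.1 e (2 ^ a)).2 (by
    rw [← pow_mul, mul_right_comm, ← pow_succ', ← ha, pow_mul, pow_orderOf_eq_one, one_pow])
  rw [← pow_mul, ← orderOf_dvd_iff_pow_eq_one, ha, pow_succ'] at h4
  have := Nat.dvd_of_mul_dvd_mul_right (by positivity) h4
  omega

theorem par_mem (h1 : c ≠ 1) {x : W} (hx : x ∈ zpowers c) {k : ℕ}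
    (h : orderOf x = orderOf (c ^ k)) : x * (c ^ k)⁻¹ ∈ zpowers (c * c) := by
  obtain ⟨i, rfl⟩ := mem_powers_iff_mem_zpowers.2 hx
  simp only at h ⊢
  have key : ∀ j : ℕ, c ^ (2 * j) ∈ zpowers (c * c) := fun j => by
    rw [pow_mul, pow_two]; exact npow_mem_zpowers _ j
  rcases Nat.even_or_odd' i with ⟨i, rfl | rfl⟩ <;> rcases Nat.even_or_odd' k with ⟨k, rfl | rfl⟩
  · exact mul_mem (key i) (inv_mem (key k))
  · exact absurd h.symm (ord_ne hW h1 _ _)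
  · exact absurd h (ord_ne hW h1 _ _)
  · simpa [pow_succ, mul_assoc] using mul_mem (key i) (inv_mem (key k))

theorem not_mem_sq (h1 : c ≠ 1) : c ∉ zpowers (c * c) := fun h => by
  obtain ⟨i, hi⟩ := mem_powers_iff_mem_zpowers.2 h
  simp only at hi
  exact ord_ne hW h1 0 i (by rw [pow_mul, pow_two, hi]; simp)

omit hW [Finite W] in
theorem conj_mem_C (hC : ∀ w w', w ∉ zpowers c → w' ∉ zpowers c → w⁻¹ * w' ∈ zpowers c) (w : W)
    {x : W} (hx : x ∈ zpowers c) : w * x * w⁻¹ ∈ zpowers c := by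
  by_cases h : w ∈ zpowers c
  · exact mul_mem (mul_mem h hx) (inv_mem h)
  · simpa using hC (w * x)⁻¹ w⁻¹ (by rwa [inv_mem_iff, mul_mem_cancel_right hx]) (by rwa [inv_mem_iff])

theorem comm_mem (h1 : c ≠ 1) (hC : ∀ w w', w ∉ zpowers c → w' ∉ zpowers c → w⁻¹ * w' ∈ zpowers c)
    (a b : W) : a * b * a⁻¹ * b⁻¹ ∈ zpowers (c * c) := by
  have key : ∀ a : W, ∀ b ∈ zpowers c, a * b * a⁻¹ * b⁻¹ ∈ zpowers (c * c) := fun a b hb => by
    obtain ⟨k, rfl⟩ := mem_powers_iff_mem_zpowers.2 hb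
    exact par_mem hW h1 (conj_mem_C hC a hb) (Tech.orderOf_conj_eq _ _)
  by_cases hb : b ∈ zpowers c
  · exact key a b hb
  by_cases ha : a ∈ zpowers c
  · simpa [mul_assoc] using inv_mem (key b a ha)
  obtain ⟨k, hk⟩ := key a _ (hC a b ha hb)
  obtain ⟨j, hj⟩ := conj_mem_C hC a (mem_zpowers c)
  simp only at hk hj
  refine ⟨j * k, ?_⟩
  have : a * b * a⁻¹ * b⁻¹ = a * (c * c) ^ k * a⁻¹ := by rw [hk]; group
  simp only
  rw [this, ← conj_zpow, ← conj_mul, ← hj, zpow_mul, (Commute.refl c).mul_zpow]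

end W

variable {G : Type*} [Group G] {X : Type*} [MulAction G X]

theorem exists_sq {d : G} {k : ℕ} (h : d ^ 2 ^ k = 1) (h1 : d * d ≠ 1) :
    ∃ j : ℕ, d ^ j * d ^ j ≠ 1 ∧ d ^ j * d ^ j * (d ^ j * d ^ j) = 1 := by
  induction k generalizing d with
  | zero => simp at h; simp [h] at h1
  | succ k ih =>
    by_cases e : d * d * (d * d) = 1
    · exact ⟨1, by simpa using ⟨h1, e⟩⟩
    · obtain ⟨j, hj⟩ := ih (d := d * d) (by rw [← pow_two, ← pow_mul, ← pow_succ', h]) e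
      exact ⟨2 * j, by rwa [pow_mul, pow_two]⟩

/-- the dihedral subgroup generated by the homologies and the cyclic group `⟨f⟩` -/
structure D2 (z h r f : G) (D : Subgroup G) (P Q B : X) : Prop extends D1 z P Q where
  hh : HH X z h
  hB : h • B = B
  R : ∀ t, HH X z (h * t) ↔ t ∈ zpowers r
  F : ∀ k, (h * k = k * h ∧ k • P = P ∧ k • B = B) ↔ k ∈ zpowers f
  memD : ∀ g, g ∈ D ↔ g ∈ zpowers r ∨ HH X z g

theorem D1.exists_D2 [Finite X] [Finite G] (ax : Ax G X) (hG : IsPGroup 2 G) {z h : G} {P Q : X}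
    (d : D1 z P Q) (hh : HH X z h) :
    ∃ (r f : G) (D : Subgroup G) (B : X), D.Normal ∧ D2 z h r f D P Q B := by
  obtain ⟨r, hr⟩ := d.exists_r ax hG hh
  obtain ⟨B, B', -, hB⟩ := ax.pair hh.1
  have h1 := (hB B).2 (Or.inl rfl)
  obtain ⟨n1, n2⟩ := d.ne_fix ax hh h1
  have hc : IsCyclic ↥(centralizer {h} ⊓ stabilizer G P ⊓ stabilizer G B) :=
    ax.cyc (hG.to_subgroup _) d.ne n1 n2 (fun g hg => hg.1.2) (fun g hg => d.fixQ hg.1.2)
      fun g hg => hg.2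
  obtain ⟨f, hf⟩ := (Subgroup.isCyclic_iff_exists_zpowers_eq_top _).1 hc
  have hR : ∀ s : G, ∀ t ∈ zpowers r, s * t * s⁻¹ ∈ zpowers r := fun s t ht => by
    have k : ∀ e, HH X z e → h * e ∈ zpowers r := fun e he => (hr _).1 (by rwa [hh.1.mm])
    have := mul_mem (inv_mem (k _ (d.conj ax hh s))) (k _ (d.conj ax ((hr t).2 ht) s))
    simpa [mul_assoc, hh.1.inv, hh.1.mm] using this
  obtain ⟨D, e⟩ := exists_ext (H := zpowers r) (t := h) (hR h) (by simpa using hR h⁻¹)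
    (by simp [hh.1.sq])
  have k : ∀ g, g * h ∈ zpowers r ↔ HH X z g := fun g => by
    rw [← hr]
    exact ⟨fun h2 => by simpa [mul_assoc, hh.1.inv, hh.1.mm, hh.1.sq] using d.conj ax h2 h,
      fun h2 => by simpa [mul_assoc, hh.1.inv] using d.conj ax h2 h⟩
  have mD : ∀ g, g ∈ D ↔ g ∈ zpowers r ∨ HH X z g := fun g =>
    ⟨fun h2 => (e.cases g h2).imp_right (k g).1, fun h2 => h2.elim (fun h3 => e.le h3) fun h3 =>
      (mul_mem_cancel_right e.mem).1 (e.le ((k g).2 h3))⟩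
  refine ⟨r, f, D, B, ⟨fun g hg s => (mD _).2 (((mD g).1 hg).imp (hR s g) fun h2 => d.conj ax h2 s)⟩,
    d, hh, h1, hr, fun k => ?_, mD⟩
  rw [hf]
  simp [mem_centralizer_singleton_iff, and_assoc, eq_comm]

namespace D2
variable {z h r f : G} {D : Subgroup G} {P Q B : X} (ax : Ax G X) (d : D2 z h r f D P Q B)
include d

theorem memR {e : G} : HH X z e ↔ h * e ∈ zpowers r := by rw [← d.R, d.hh.1.mm]

include ax

theorem zR : z ∈ zpowers r := (d.R z).1 (d.mul_z ax d.hh)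

theorem RP {t : G} (ht : t ∈ zpowers r) : t • P = P := by
  simpa [d.hh.1.mm] using d.mulP ax d.hh ((d.R t).2 ht)

theorem invR [Finite X] {e t : G} (he : HH X z e) (ht : t ∈ zpowers r) : e * t = t⁻¹ * e :=
  d.inverts ax he (d.memR.2 (by rw [← mul_assoc]; exact mul_mem (d.memR.1 he) ht))

theorem mem_R {g : G} (hg : g ∈ D) (h1 : g • P = P) : g ∈ zpowers r :=
  ((d.memD g).1 hg).resolve_right fun e => d.ne (h1.symm.trans (d.swap ax e).1)

theorem l2D {g : G} (hg : g ∈ D) (h1 : g ≠ 1) : L2 X g := by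
  rcases (d.memD g).1 hg with e | e
  · simpa [d.hh.1.mm] using ax.prod d.hh.1 ((d.R g).2 e).1 fun e => h1 (by simpa using e)
  · exact e.1.l2

theorem hiD {g : G} (hg : Hi X g) : g ∈ D := by
  by_cases e : g = z
  exacts [(d.memD g).2 (Or.inl (e ▸ d.zR ax)), (d.memD g).2 (Or.inr ⟨hg, e⟩)]

theorem notL2 {k : G} (hk : k ∈ zpowers f) : ¬ L2 X k := fun e => by
  obtain ⟨-, h1, h2⟩ := (d.F k).2 hk
  obtain ⟨n1, n2⟩ := d.ne_fix ax d.hh d.hB
  rcases e P Q B h1 (d.fixQ h1) h2 with e | e | e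
  exacts [d.ne e, n1 e, n2 e]

variable [Finite X]

theorem sqR {t : G} (ht : t ∈ zpowers r) (h1 : t * t = 1) : t = 1 ∨ t = z := by
  simpa using d.sq_fib ax d.hh (t := 1) (by simpa using d.hh) ((d.R t).2 ht) (by simp [h1])

theorem decomp {g : G} (hg : h * g = g * h) :
    ∃ e, (e = 1 ∨ e = h ∨ e = z ∨ e = h * z) ∧ g * e ∈ zpowers f := by
  have key : ∀ {g : G}, h * g = g * h → g • P = P → g ∈ zpowers f ∨ g * z ∈ zpowers f :=
    fun {g} h1 h2 => (d.fix_or ax d.hh h1 d.hB).imp (fun e => (d.F g).1 ⟨h1, h2, e⟩) fun e =>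
      (d.F _).1 ⟨by rw [← mul_assoc, h1, mul_assoc, d.cen ax h, mul_assoc],
        by rw [mul_smul, d.zP, h2], e⟩
  rcases d.pres g with e | e
  · rcases key hg e.1 with k | k
    exacts [⟨1, by simp, by simpa using k⟩, ⟨z, by simp, k⟩]
  · rcases key (g := g * h) (by rw [← mul_assoc, hg]) (by rw [mul_smul, (d.swap ax d.hh).1, e.2])
      with k | k
    exacts [⟨h, by simp, k⟩, ⟨h * z, by simp, by rwa [← mul_assoc]⟩]

/-- the involution of `⟨f⟩` centralises the elements of order four of `⟨r⟩` -/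
theorem cy [Finite G] {φ y : G} (hφ : φ ∈ zpowers f) (ho : orderOf φ = 2) (hy : y ∈ zpowers r)
    (h2 : y * y = z) : φ * y = y * φ := by
  obtain ⟨c1, c2, c3⟩ := (d.F φ).2 hφ
  have f2 := Tech.mul_self_of_orderOf_two ho
  have h3 : y⁻¹ * h * y⁻¹⁻¹ = h * z := by rw [← d.invR ax d.hh hy, inv_inv, mul_assoc, h2]
  have h4 : (h * z) • y⁻¹ • B = y⁻¹ • B := by rw [← h3, conj_fix]; simpa using d.hB
  have h5 := ax.cfix d.hz d.hh.1 d.hh.2 (d.cen ax h) (Tech.ne_one_of_orderOf_two ho) f2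
    (d.cen ax φ).symm c1 d.zP d.hB h4 c2 c3
  have h6 : y * φ * y⁻¹ ∈ zpowers f := (d.F _).1 ⟨by
      have h7 : h * z * φ = φ * (h * z) := by rw [mul_assoc, ← d.cen ax φ, ← mul_assoc, c1, mul_assoc]
      rw [← h3] at h7
      calc h * (y * φ * y⁻¹) = y * (y⁻¹ * h * y⁻¹⁻¹ * φ) * y⁻¹ := by group
        _ = _ := by rw [h7]; group,
    (conj_fix y).2 (by rw [d.RP ax (inv_mem hy), c2]), (conj_fix y).2 h5⟩
  rw [eq_comm, ← mul_inv_eq_iff_eq_mul]
  exact Transfer.eq_of_orderOf_eq_two_of_isCyclic inferInstance h6 hφ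
    ((Tech.orderOf_conj_eq _ _).trans ho) ho

end D2

end CfsgLib.Oval
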