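import Mathlib
import Cfsg.Agent.Lib.Oval.Grp2

/-! The trichotomy for the Sylow 2-subgroup. -/

set_option autoImplicit false

namespace CfsgLib.Oval

open MulAction CfsgLib.Perm Subgroup

variable {G : Type*} [Group G] {X : Type*} [MulAction G X]

/-- membership in `D⟨f⟩` -/
def In (D : Subgroup G) [D.Normal] (f g : G) : Prop :=
  (g : G ⧸ D) ∈ zpowers (f : G ⧸ D)

section
variable {D : Subgroup G} [D.Normal] {f : G}

theorem In.mul {a b : G} (ha : In D f a) (hb : In D f b) : In D f (a * b) := mul_mem ha hb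

theorem In.inv {a : G} (ha : In D f a) : In D f a⁻¹ := inv_mem ha

theorem in_D {a : G} (ha : a ∈ D) : In D f a := by
  unfold In; rw [(QuotientGroup.eq_one_iff a).2 ha]; exact one_mem _

theorem in_f {a : G} (ha : a ∈ zpowers f) : In D f a := by
  obtain ⟨k, rfl⟩ := ha; exact ⟨k, rfl⟩

theorem In.ex [Finite G] {a : G} (ha : In D f a) : ∃ i : ℕ, ∃ d ∈ D, a = d * f ^ i := by
  obtain ⟨i, hi⟩ := mem_powers_iff_mem_zpowers.2 ha
  refine ⟨i, a * (f ^ i)⁻¹, ?_, by simp⟩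
  simp only at hi
  rw [← QuotientGroup.eq_one_iff, QuotientGroup.mk_mul, ← hi]
  simp

end

namespace D2
variable {z h r f : G} {D : Subgroup G} {P Q B : X} (ax : Ax G X) (d : D2 z h r f D P Q B)
  [D.Normal] [Finite X]
include d ax

omit [Finite X] [D.Normal] in
theorem RD {t : G} (ht : t ∈ zpowers r) : t ∈ D := (d.memD t).2 (Or.inl ht)

theorem in_of_comm {g : G} (hg : h * g = g * h) : In D f g := by
  obtain ⟨e, h1, h2⟩ := d.decomp ax hg
  have h3 : e ∈ D := by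
    rcases h1 with rfl | rfl | rfl | rfl
    exacts [one_mem _, d.hiD ax d.hh.1, d.hiD ax d.hz, d.hiD ax (d.mul_z ax d.hh).1]
  simpa using (in_f h2).mul (in_D h3).inv

theorem cjR {e : G} (he : HH X z e) (i : ℤ) : e * r ^ (2 * i) = (r ^ i)⁻¹ * e * (r ^ i)⁻¹⁻¹ := by
  rw [← d.invR ax he (zpow_mem_zpowers r i), inv_inv, two_mul, zpow_add, mul_assoc]

theorem cls {e : G} (he : HH X z e) :
    (∃ t ∈ D, e = t * h * t⁻¹) ∨ ∃ i : ℤ, e = h * r ^ (2 * i + 1) := by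
  obtain ⟨i, hi⟩ := d.memR.1 he
  simp only at hi
  rcases Int.even_or_odd' i with ⟨i, rfl | rfl⟩
  · exact Or.inl ⟨_, inv_mem (d.RD ax (zpow_mem_zpowers r i)), by
      rw [← d.cjR ax d.hh, hi, d.hh.1.mm]⟩
  · exact Or.inr ⟨i, by rw [hi, d.hh.1.mm]⟩

theorem out {s : G} (hs : ¬ In D f s) : ∃ i : ℤ, s * h * s⁻¹ = h * r ^ (2 * i + 1) :=
  (d.cls ax (d.conj ax d.hh s)).resolve_left fun ⟨t, h1, h2⟩ => hs (by
    have := d.in_of_comm ax (g := t⁻¹ * s) (by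
      calc h * (t⁻¹ * s) = t⁻¹ * (t * h * t⁻¹) * s := by group
        _ = _ := by rw [← h2]; group)
    simpa using (in_D h1).mul this)

theorem odd_conj {s : G} {i : ℤ} (hs : s * h * s⁻¹ = h * r ^ (2 * i + 1)) (j : ℤ) :
    ∃ t ∈ D, h * r ^ (2 * j + 1) = (t * s) * h * (t * s)⁻¹ := by
  refine ⟨_, inv_mem (d.RD ax (zpow_mem_zpowers r (j - i))), ?_⟩
  have := d.cjR ax (d.conj ax d.hh s) (j - i)
  calc h * r ^ (2 * j + 1) = s * h * s⁻¹ * r ^ (2 * (j - i)) := by rw [hs]; group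
    _ = _ := by rw [this]; group

theorem idx {s s' : G} (hs : ¬ In D f s) (hs' : ¬ In D f s') : In D f (s⁻¹ * s') := by
  obtain ⟨i, hi⟩ := d.out ax hs
  obtain ⟨j, hj⟩ := d.out ax hs'
  obtain ⟨t, h1, h2⟩ := d.odd_conj ax hi j
  have := d.in_of_comm ax (g := (t * s)⁻¹ * s') (by
    rw [← hj] at h2
    calc h * ((t * s)⁻¹ * s') = (t * s)⁻¹ * ((t * s) * h * (t * s)⁻¹) * s' := by group
      _ = _ := by rw [← h2]; group)
  simpa [mul_assoc] using (in_D (‹D.Normal›.conj_mem' t h1 s)).mul this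

theorem idx' (w w' : G ⧸ D) (hw : w ∉ zpowers (f : G ⧸ D)) (hw' : w' ∉ zpowers (f : G ⧸ D)) :
    w⁻¹ * w' ∈ zpowers (f : G ⧸ D) := by
  obtain ⟨s, rfl⟩ := QuotientGroup.mk_surjective w
  obtain ⟨s', rfl⟩ := QuotientGroup.mk_surjective w'
  exact d.idx ax hw hw'

omit [Finite X] in
theorem ord_mk {x : G} (hx : ¬ L2 X x) : orderOf (x : G ⧸ D) = orderOf x :=
  orderOf_eq_orderOf_iff.2 fun k => by
    rw [← QuotientGroup.mk_pow, QuotientGroup.eq_one_iff]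
    exact ⟨fun e => by_contra fun e1 => hx (d.l2D ax e e1).of_pow, fun e => e ▸ one_mem _⟩

variable [Finite G] (hG : IsPGroup 2 G) {φ : G} (hφ : φ ∈ zpowers f) (ho : orderOf φ = 2)
include hG hφ ho

theorem phi_out (s : G) : s * φ * s⁻¹ = φ ∨ s * φ * s⁻¹ = z * φ := by
  have f2 := Tech.mul_self_of_orderOf_two ho
  have h1 : orderOf (φ : G ⧸ D) = 2 := (d.ord_mk ax (d.notL2 ax hφ)).trans ho
  have h2 : (s : G ⧸ D) * φ * (s : G ⧸ D)⁻¹ = φ :=
    Transfer.eq_of_orderOf_eq_two_of_isCyclic inferInstance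
      (conj_mem_C (d.idx' ax) _ (in_f hφ)) (in_f hφ) ((Tech.orderOf_conj_eq _ _).trans h1) h1
  have h3 : s * φ * s⁻¹ * φ ∈ D := by
    rw [← QuotientGroup.eq_one_iff]
    simp only [QuotientGroup.mk_mul, QuotientGroup.mk_inv, h2]
    exact Tech.mul_self_of_orderOf_two h1
  obtain ⟨-, c2, -⟩ := (d.F φ).2 hφ
  have h4 := d.mem_R ax h3 (by
    rw [mul_smul, c2, conj_fix]
    rcases d.pres s⁻¹ with e | e <;> rw [e.1]
    exacts [c2, d.fixQ c2])
  have h5 : s * φ * s⁻¹ * (s * φ * s⁻¹) = 1 := by simp [mul_assoc, ← mul_assoc φ φ, f2]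
  generalize s * φ * s⁻¹ = ψ at h4 h5
  have h6 : ψ * φ * (ψ * φ) = 1 := by
    by_contra hn
    obtain ⟨k, hk⟩ := hG (ψ * φ)
    obtain ⟨j, j1, j2⟩ := exists_sq hk hn
    have j3 := pow_mem h4 j
    have j4 := d.cy ax hφ ho j3 ((d.sqR ax (mul_mem j3 j3) j2).resolve_left j1)
    have j5 : φ * (ψ * φ) * φ⁻¹ = (ψ * φ)⁻¹ := by
      rw [mul_inv_rev, inv_eq_of_mul_eq_one_right h5, inv_eq_of_mul_eq_one_right f2, mul_assoc,
        mul_assoc, f2, mul_one]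
    have j6 : φ * (ψ * φ) ^ j * φ⁻¹ = ((ψ * φ) ^ j)⁻¹ := by rw [← conj_pow, j5, inv_pow]
    rw [j4, mul_inv_cancel_right, eq_inv_iff_mul_eq_one] at j6
    exact j1 j6
  rcases d.sqR ax h4 h6 with e | e
  · exact Or.inl (mul_right_cancel (e.trans f2.symm))
  · exact Or.inr (by rw [← e, mul_assoc, f2, mul_one])

omit hφ ho in
theorem gen (i : ℤ) {t : G} (ht : t ∈ zpowers r) : t ∈ zpowers (r ^ (2 * i + 1)) := by
  have := Fact.mk Nat.prime_two
  refine zpowers_le.2 (mem_zpowers_zpow_iff.2 ?_) ht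
  obtain ⟨a, ha⟩ := (IsPGroup.iff_orderOf.1 hG) r
  rw [ha, ← Int.isCoprime_iff_gcd_eq_one]
  push_cast
  exact IsCoprime.pow_right ⟨1, -i, by ring⟩

theorem phi_in {s : G} (hs : ¬ In D f s) {g : G} (hg : In D f g) : φ * g = g * φ := by
  obtain ⟨c1, -, -⟩ := (d.F φ).2 hφ
  obtain ⟨i, hi⟩ := d.out ax hs
  have h1 : Commute (s * φ * s⁻¹) (s * h * s⁻¹) := Commute.map c1.symm (MulAut.conj s)
  have h2 : Commute φ (s * h * s⁻¹) := by
    rcases d.phi_out ax hG hφ ho s with e | e <;> rw [e] at h1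
    · exact h1
    · simpa [d.hz.mm] using Commute.mul_left (d.cen ax _).symm h1
  have h3 : Commute φ (r ^ (2 * i + 1)) := by
    simpa [hi, d.hh.1.mm] using Commute.mul_right c1.symm h2
  have h4 : ∀ t ∈ zpowers r, Commute φ t := fun t ht => by
    obtain ⟨k, rfl⟩ := d.gen ax hG i ht
    exact h3.zpow_right k
  obtain ⟨k, e, h5, rfl⟩ := hg.ex
  refine Commute.mul_right ?_ ?_
  · rcases (d.memD e).1 h5 with h6 | h6
    · exact h4 e h6
    · simpa [d.hh.1.mm] using Commute.mul_right c1.symm (h4 _ (d.memR.1 h6))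
  · obtain ⟨j, rfl⟩ := hφ
    exact ((Commute.refl f).zpow_left j).pow_right k

theorem caseI {s : G} (hs : ¬ In D f s) (h1 : s * φ * s⁻¹ = φ) :
    (∀ g, φ * g = g * φ) ∧ ∀ e : G, Hi X e → ∀ x : X, e • x = x → φ • x = x := by
  have hc : ∀ g, φ * g = g * φ := fun g => by
    by_cases hg : In D f g
    · exact d.phi_in ax hG hφ ho hs hg
    · simpa using (Commute.mul_right (mul_inv_eq_iff_eq_mul.1 h1).symm
        (d.phi_in ax hG hφ ho hs (d.idx ax hs hg))).eq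
  obtain ⟨c1, c2, c3⟩ := (d.F φ).2 hφ
  refine ⟨hc, fun e he x hx => ?_⟩
  by_cases e1 : e = z
  · exact ax.fix_both d.hz (hc z).symm d.zP (e1 ▸ hx) c2
  obtain ⟨g, rfl⟩ : ∃ g, e = g * h * g⁻¹ := by
    rcases d.cls ax ⟨he, e1⟩ with ⟨t, -, h2⟩ | ⟨j, rfl⟩
    · exact ⟨t, h2⟩
    · obtain ⟨i, hi⟩ := d.out ax hs
      obtain ⟨t, -, h2⟩ := d.odd_conj ax hi j
      exact ⟨_, h2⟩
  have := (conj_fix g).2 (ax.fix_both d.hh.1 c1 d.hB ((conj_fix g).1 hx) c3)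
  rwa [← hc, mul_inv_cancel_right] at this

theorem out_sq (h1 : ∀ s, ¬ In D f s → s * φ * s⁻¹ ≠ φ) {x : G} (hx : ¬ L2 X x)
    (h2 : ¬ In D f x) : x * x = 1 := by
  by_contra hn
  obtain ⟨y, y1, y2⟩ := Tech.exists_involution_of_pgroup (hG.to_subgroup (zpowers (x * x)))
    (by simpa using hn)
  obtain ⟨j, rfl⟩ := mem_powers_iff_mem_zpowers.2 y1
  simp only at y2
  have h3 : In D f ((x * x) ^ j) := by
    have : In D f (x * x) := by simpa using d.idx ax (s := x⁻¹) (fun e => h2 (by simpa using e.inv)) h2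
    exact pow_mem this j
  have h4 : ¬ L2 X ((x * x) ^ j) := fun e => hx (by
    rw [← pow_two, ← pow_mul] at e; exact e.of_pow)
  have h5 : ((x * x) ^ j) • P = P := fx_zpowers.2 (d.sqP x) _ y1
  have h6 : Commute x ((x * x) ^ j) := ((Commute.refl x).mul_right (Commute.refl x)).pow_right j
  have h7 := d.phi_in ax hG hφ ho h2 h3
  generalize (x * x) ^ j = y at *
  have f2 := Tech.mul_self_of_orderOf_two ho
  have g2 := Tech.mul_self_of_orderOf_two y2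
  refine h1 x h2 (mul_inv_eq_iff_eq_mul.2 ?_)
  by_cases e : φ = y
  · exact e ▸ h6
  have h8 := d.eq_z ax ⟨fun e1 => e (mul_right_cancel (e1.trans g2.symm)),
    Invol.mul_mul_self_of_commute f2 g2 h7, ax.bb (Tech.ne_one_of_orderOf_two ho) f2
      (Tech.ne_one_of_orderOf_two y2) g2 h7 e (d.notL2 ax hφ) h4⟩
    (by rw [mul_smul, h5, ((d.F φ).2 hφ).2.1])
  rw [show φ = z * y by rw [← h8, mul_assoc, g2, mul_one]]
  exact Commute.mul_right (d.cen ax x) h6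

omit hφ ho in
theorem out_inv {x : G} (hx : x * x = 1) (h2 : ¬ In D f x) {t : G} (ht : t ∈ zpowers r) :
    x * t * x⁻¹ = t⁻¹ := by
  obtain ⟨i, hi⟩ := d.out ax h2
  obtain ⟨k, rfl⟩ := d.gen ax hG i ht
  simp only
  rw [← conj_zpow, ← inv_zpow]
  congr 1
  rw [eq_inv_iff_mul_eq_one, ← mul_right_inj (x * h * x⁻¹), mul_one]
  generalize r ^ (2 * i + 1) = u at hi
  have h3 : x * (x * h * x⁻¹) * x⁻¹ = h := by
    rw [inv_eq_of_mul_eq_one_right hx]; simp [mul_assoc, ← mul_assoc x x, hx]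
  calc _ = x * (h * u) * x⁻¹ * u := by group
    _ = _ := by rw [← hi, h3, hi]

omit hφ ho in
theorem claimC (f1 : f ≠ 1) {x y : G} (x1 : x * x = 1) (x2 : ¬ In D f x) (x3 : ¬ L2 X x)
    (y1 : y * y = 1) (y2 : ¬ In D f y) :
    ((x * y : G) : G ⧸ D) ∈ zpowers ((f : G ⧸ D) * f) := by
  have := Fact.mk Nat.prime_two
  have xi := inv_eq_of_mul_eq_one_right x1
  obtain ⟨i, e, e1, e2⟩ := (xi ▸ d.idx ax x2 y2 : In D f (x * y)).ex
  have e3 : ((x * y : G) : G ⧸ D) = (f : G ⧸ D) ^ i := by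
    rw [e2, QuotientGroup.mk_mul, (QuotientGroup.eq_one_iff e).2 e1, one_mul, QuotientGroup.mk_pow]
  rcases Nat.even_or_odd' i with ⟨i, rfl | rfl⟩
  · rw [e3, pow_mul, pow_two]; exact npow_mem_zpowers _ i
  exfalso
  obtain ⟨b, hb⟩ := (IsPGroup.iff_orderOf.1 hG) f
  obtain ⟨b, rfl⟩ : ∃ a, b = a + 1 := Nat.exists_eq_succ_of_ne_zero (by
    rintro rfl; exact f1 (orderOf_eq_one_iff.1 hb))
  have hf : f ^ 2 ^ (b + 1) = 1 := hb ▸ pow_orderOf_eq_one f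
  have c1 : Commute h f := ((d.F f).2 (mem_zpowers f)).1
  obtain ⟨t, k, t1, k1, k2⟩ : ∃ t k, t ∈ zpowers r ∧ x * y = t * k ∧ k ^ 2 ^ (b + 1) = 1 := by
    have h0 : (f ^ (2 * i + 1)) ^ 2 ^ (b + 1) = 1 := by rw [← pow_mul, mul_comm, pow_mul, hf, one_pow]
    rcases (d.memD e).1 e1 with h1 | h1
    · exact ⟨e, _, h1, e2, h0⟩
    · refine ⟨e * h, h * f ^ (2 * i + 1), ?_, by rw [e2, mul_assoc, d.hh.1.mm], ?_⟩
      · simpa [h1.1.inv, d.hh.1.inv] using inv_mem (d.memR.1 h1)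
      · rw [(c1.pow_right _).mul_pow, h0, mul_one, pow_succ', pow_mul, pow_two, d.hh.1.sq, one_pow]
  have k3 : (k : G ⧸ D) = (f : G ⧸ D) ^ (2 * i + 1) := by
    rw [← e3, k1, QuotientGroup.mk_mul, (QuotientGroup.eq_one_iff t).2 (d.RD ax t1), one_mul]
  have k4 : x * k * x⁻¹ = k⁻¹ := by
    have u1 := d.out_inv ax hG x1 x2 t1
    have u2 := d.out_inv ax hG y1 y2 t1
    have u3 : k = t⁻¹ * (x * y) := by rw [k1]; group
    have yi := inv_eq_of_mul_eq_one_right y1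
    have u4 : t * y = y * t⁻¹ := by rw [← u2, yi]; simp [← mul_assoc, y1]
    have u5 : t⁻¹ * x = x * t := by rw [← u1]; group
    have u6 : x * t⁻¹ = t * x := by rw [← u1]; simp [← mul_assoc, x1, xi]
    rw [u3, mul_inv_rev, mul_inv_rev, inv_inv, xi, yi, ← mul_assoc, ← mul_assoc, u6, mul_assoc t, x1,
      mul_one, u4, mul_assoc, u5, mul_assoc]
  have k5 : k ^ 2 ^ b * k ^ 2 ^ b = 1 := by rw [← pow_add, ← two_mul, ← pow_succ', k2]
  have k6 : x * k ^ 2 ^ b = k ^ 2 ^ b * x := by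
    rw [← mul_inv_eq_iff_eq_mul, ← conj_pow, k4, inv_pow, inv_eq_of_mul_eq_one_right k5]
  have k7 : k ^ 2 ^ b ∉ D := fun e => by
    rw [← QuotientGroup.eq_one_iff, QuotientGroup.mk_pow, k3, ← pow_mul,
      ← orderOf_dvd_iff_pow_eq_one, d.ord_mk ax (d.notL2 ax (mem_zpowers f)), hb, pow_succ'] at e
    have := Nat.dvd_of_mul_dvd_mul_right (by positivity) e
    omega
  have k8 : In D f (k ^ 2 ^ b) := pow_mem (show (k : G ⧸ D) ∈ _ from k3 ▸ npow_mem_zpowers _ _) _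
  generalize k ^ 2 ^ b = w at k5 k6 k7 k8
  have w1 : w ≠ 1 := fun e => k7 (e ▸ one_mem _)
  have w2 : x ≠ w := fun e => x2 (e ▸ k8)
  have := d.hiD ax ⟨fun e1 => w2 (mul_right_cancel (e1.trans k5.symm)),
    Invol.mul_mul_self_of_commute x1 k5 k6, ax.bb (fun e => x2 (e ▸ in_D (one_mem _))) x1 w1 k5 k6
      w2 x3 fun e => k7 (d.hiD ax ⟨w1, k5, e⟩)⟩
  exact x2 (by simpa using (in_D this).mul k8.inv)

theorem caseII (h1 : ∀ s, ¬ In D f s → s * φ * s⁻¹ ≠ φ) :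
    ∃ M : Subgroup G, (∀ a b, a * b * a⁻¹ * b⁻¹ ∈ M) ∧ f * f ∈ M ∧ f ∉ M ∧
      ∀ x (k : ℕ), ¬ L2 X x → orderOf x = orderOf (f ^ k) → x * (f ^ k)⁻¹ ∈ M := by
  have f1 : f ≠ 1 := by
    rintro rfl
    rw [zpowers_one_eq_bot, mem_bot] at hφ
    exact Tech.ne_one_of_orderOf_two ho hφ
  have hW := hG.to_quotient D
  have c1 : (f : G ⧸ D) ≠ 1 := fun e => f1 (by
    rw [← orderOf_eq_one_iff, ← d.ord_mk ax (d.notL2 ax (mem_zpowers f)), e, orderOf_one])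
  have hc := comm_mem hW c1 (d.idx' ax)
  have hin : ∀ x (k : ℕ), ¬ L2 X x → orderOf x = orderOf (f ^ k) → In D f x →
      (x : G ⧸ D) * ((f : G ⧸ D) ^ k)⁻¹ ∈ zpowers ((f : G ⧸ D) * f) := fun x k x1 x2 x3 =>
    par_mem hW c1 x3 (by
      rw [d.ord_mk ax x1, x2, ← d.ord_mk ax (d.notL2 ax (npow_mem_zpowers f k))]; rfl)
  by_cases hx : ∃ x, ¬ L2 X x ∧ ¬ In D f x
  · obtain ⟨x0, a1, a2⟩ := hx
    have a3 := d.out_sq ax hG hφ ho h1 a1 a2
    have f2 := Tech.mul_self_of_orderOf_two ho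
    obtain ⟨M, e⟩ := exists_ext (H := zpowers ((f : G ⧸ D) * f)) (t := (x0 * φ : G))
      (fun g hg => by simpa using mul_mem (hc (x0 * φ : G) g) hg)
      (fun g hg => by simpa using mul_mem (hc (↑(x0 * φ : G))⁻¹ g) hg) (by
        have := hc x0 φ
        rwa [← QuotientGroup.mk_inv, ← QuotientGroup.mk_inv, inv_eq_of_mul_eq_one_right a3,
          inv_eq_of_mul_eq_one_right f2, mul_assoc] at this)
    refine ⟨M.comap (QuotientGroup.mk' D), fun a b => e.le (hc a b), e.le (mem_zpowers _),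
      fun h2 => ?_, fun x k x1 x2 => ?_⟩
    · rcases e.cases _ h2 with h3 | h3
      · exact not_mem_sq hW c1 h3
      · have h4 : In D f (f * (x0 * φ)) :=
          zpowers_le.2 (mul_mem (mem_zpowers _) (mem_zpowers _)) h3
        exact a2 (by simpa using ((in_f (mem_zpowers f)).inv.mul h4).mul (in_f hφ).inv)
    · by_cases x3 : In D f x
      · exact e.le (hin x k x1 x2 x3)
      have x4 := d.out_sq ax hG hφ ho h1 x1 x3
      have x5 : f ^ k = φ := Transfer.eq_of_orderOf_eq_two_of_isCyclic inferInstance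
        (npow_mem_zpowers f k) hφ (x2 ▸ Tech.orderOf_two_of_mul_self x4 fun e =>
          x3 (e ▸ in_D (one_mem _))) ho
      have x6 := mul_mem (e.le (d.claimC ax hG f1 x4 x3 x1 a3 a2)) e.mem
      rw [← QuotientGroup.mk_mul, mul_assoc, ← mul_assoc x0, a3, one_mul] at x6
      rw [x5, inv_eq_of_mul_eq_one_right f2]
      exact x6
  · push Not at hx
    exact ⟨(zpowers ((f : G ⧸ D) * f)).comap (QuotientGroup.mk' D), fun a b => hc a b,
      mem_zpowers _, not_mem_sq hW c1, fun x k x1 x2 => hin x k x1 x2 (hx x x1)⟩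

end D2

theorem Ax.tri [Finite X] [Finite G] (ax : Ax G X) (hG : IsPGroup 2 G) {a b : G} (ha : Hi X a)
    (hb : Hi X b) (hab : a ≠ b) (hc : a * b = b * a) :
    (∃ h z : G, Hi X h ∧ Hi X z ∧ h ≠ z ∧ h * z = z * h ∧
      ∀ g, h * g = g * h → g = 1 ∨ g = h ∨ g = z ∨ g = h * z) ∨
    (∃ (f : G) (M : Subgroup G), ¬ L2 X f ∧ (∀ a b, a * b * a⁻¹ * b⁻¹ ∈ M) ∧ f * f ∈ M ∧ f ∉ M ∧
      ∀ x (k : ℕ), ¬ L2 X x → orderOf x = orderOf (f ^ k) → x * (f ^ k)⁻¹ ∈ M) ∨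
    ∃ φ : G, orderOf φ = 2 ∧ ¬ L2 X φ ∧ (∀ g, φ * g = g * φ) ∧
      (∀ e : G, Hi X e → ∀ x : X, e • x = x → φ • x = x) ∧
      ∀ u : G, ∃ e, Hi X e ∧ e ≠ u ∧ (Hi X u → e * u = u * e) := by
  obtain ⟨z, h, P, Q, d1, h1, h2⟩ := ax.exists_D1 hG ha hb hab hc
  obtain ⟨r, f, D, B, hD, d⟩ := d1.exists_D2 ax hG ⟨h1, h2⟩
  by_cases f1 : f = 1
  · refine Or.inl ⟨h, z, h1, d.hz, h2, d.cen ax h, fun g hg => ?_⟩
    obtain ⟨e, e1, e2⟩ := d.decomp ax hg
    rw [f1, zpowers_one_eq_bot, mem_bot, mul_eq_one_iff_eq_inv] at e2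
    rcases e1 with rfl | rfl | rfl | rfl
    · simp [e2]
    · simp [e2, h1.inv]
    · simp [e2, d.hz.inv]
    · rw [(d.mul_z ax d.hh).1.inv] at e2; simp [e2]
  obtain ⟨φ, hφ, ho⟩ := Tech.exists_involution_of_pgroup (hG.to_subgroup (zpowers f))
    (by simpa using f1)
  by_cases h3 : ∃ s, ¬ In D f s ∧ s * φ * s⁻¹ = φ
  · obtain ⟨s, s1, s2⟩ := h3
    obtain ⟨k1, k2⟩ := d.caseI ax hG hφ ho s1 s2
    refine Or.inr (Or.inr ⟨φ, ho, d.notL2 ax hφ, k1, k2, fun u => ?_⟩)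
    by_cases e : u = z
    exacts [⟨h, h1, e ▸ h2, fun _ => e ▸ d.cen ax h⟩,
      ⟨z, d.hz, Ne.symm e, fun _ => (d.cen ax u).symm⟩]
  · push Not at h3
    obtain ⟨M, hM⟩ := d.caseII ax hG hφ ho h3
    exact Or.inr (Or.inl ⟨f, M, d.notL2 ax (mem_zpowers f), hM⟩)

end CfsgLib.Oval
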